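import Groth.Agent.Lib.JacBC22.Jac

/-!
# The Abel map after an extension of the ground field
-/

set_option autoImplicit false
set_option linter.style.haveILetI false
set_option linter.unusedSectionVars false
set_option backward.isDefEq.respectTransparency false
set_option backward.isDefEq.respectTransparency.types false
set_option maxHeartbeats 1000000

universe u

open CategoryTheory CategoryTheory.Limits AlgebraicGeometry TopologicalSpace Opposite MonoidalCategory
  CartesianMonoidalCategory MonObj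
open scoped CategoryTheory.Obj

noncomputable section

namespace Groth.Agent.JacBC22

open Groth.Agent.Abel10 (pc pc_comp pc_id)
open Groth.Agent.Abel10 Groth.Agent.PicRep20 Groth.Agent.AbDual22 Groth.Agent.JacPts22

noncomputable local instance instLawJacBCAbel (Y : Scheme.{u}) : PicGrp.Law Y := M2.law Y

variable {k : Type u} [Field k] {K : Type u} [Field K] [IsAlgClosed K]
  (β : Spec (CommRingCat.of K) ⟶ Spec (CommRingCat.of k))
  {C : Scheme.{u}} [C.Over (Spec (CommRingCat.of k))]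

/-- A point of the curve over the larger field as a morphism over the smaller one. -/
abbrev flC (x : 𝟙_ (Over (Spec (CommRingCat.of K))) ⟶ Over.mk (CK β C ↘ Spec (CommRingCat.of K))) :
    Over.mk β ⟶ Over.mk (C ↘ Spec (CommRingCat.of k)) :=
  Over.homMk (x.left ≫ pullback.fst (C ↘ Spec (CommRingCat.of k)) β) (by
    show (x.left ≫ pullback.fst (C ↘ Spec (CommRingCat.of k)) β) ≫ (C ↘ Spec (CommRingCat.of k)) = β
    rw [Category.assoc, pullback.condition, ← Category.assoc]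
    exact (congrArg (· ≫ β) (Over.w x)).trans (Category.id_comp _))

/-- Every point over the smaller field comes from one over the larger. -/
theorem flC_surjective (y : Over.mk β ⟶ Over.mk (C ↘ Spec (CommRingCat.of k))) :
    ∃ x, flC β x = y := by
  have hy : y.left ≫ (C ↘ Spec (CommRingCat.of k)) = β := Over.w y
  refine ⟨Over.homMk (pullback.lift y.left (𝟙 (Spec (CommRingCat.of K))) (by
      rw [Category.id_comp]; exact hy) : Spec (CommRingCat.of K) ⟶ CK β C) (pullback.lift_snd _ _ _), ?_⟩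
  exact Over.OverMorphism.ext (pullback.lift_fst _ _ _)

variable [IsProper (C ↘ Spec (CommRingCat.of k))] [Smooth (C ↘ Spec (CommRingCat.of k))]
  [GeometricallyConnected (C ↘ Spec (CommRingCat.of k))] [IsIntegral C]
  [GeometricallyIrreducible (C ↘ Spec (CommRingCat.of k))] (hdim : topologicalKrullDim C = 1)
  [IsProper (CK β C ↘ Spec (CommRingCat.of K))] [Smooth (CK β C ↘ Spec (CommRingCat.of K))]
  [GeometricallyConnected (CK β C ↘ Spec (CommRingCat.of K))] [IsIntegral (CK β C)]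
  [GeometricallyIrreducible (CK β C ↘ Spec (CommRingCat.of K))] (hdimK : topologicalKrullDim (CK β C) = 1)
  {J : Over (Spec (CommRingCat.of k))} [GrpObj J] [IsCommMonObj J]
  {ψ : (ModFun.PicDeg (C ↘ Spec (CommRingCat.of k)) 0).Hom ⊤ J}
  {ξ : PicLoc.PicSet (PicF.XT (C ↘ Spec (CommRingCat.of k)) J)}
  (hξ : IsUnivClass (C ↘ Spec (CommRingCat.of k)) 0 J ξ)
  (hψ : ∀ (T : Over (Spec (CommRingCat.of k))) (x : (ModFun.PicDeg (C ↘ Spec (CommRingCat.of k)) 0).Fam T)
    (hx : (ModFun.PicDeg (C ↘ Spec (CommRingCat.of k)) 0).ok T x),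
    ψ.app T x trivial hx = classify hξ (famCls _ 0 hx) (degCl_famCls _ hdim 0 hx))
  {ψK : (ModFun.PicDeg (CK β C ↘ Spec (CommRingCat.of K)) 0).Hom ⊤ (Red.bc β J)}
  (hψK : ∀ T x (hx : (ModFun.PicDeg (CK β C ↘ Spec (CommRingCat.of K)) 0).ok T x),
    ψK.app T x trivial hx = classify (univ_K β hdim hdimK hξ) (famCls _ 0 hx) (degCl_famCls _ hdimK 0 hx))
  (hJK : Jac.IsJacobian (CK β C ↘ Spec (CommRingCat.of K)) ⊤ (Red.bc β J) ψK)
  {σ : Spec (CommRingCat.of k) ⟶ C} (hσ : σ ≫ (C ↘ Spec (CommRingCat.of k)) = 𝟙 _)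
  {j : Over.mk (C ↘ Spec (CommRingCat.of k)) ⟶ J} (hj : Jac.IsAbelJacobiAt (C ↘ Spec (CommRingCat.of k)) σ ψ j)

include hdim hdimK hξ hψ hψK hJK hσ hj

theorem exists_abel_bc :
    ∃ (σK : Spec (CommRingCat.of K) ⟶ CK β C) (hσK : σK ≫ (CK β C ↘ Spec (CommRingCat.of K)) = 𝟙 _)
      (jK : Over.mk (CK β C ↘ Spec (CommRingCat.of K)) ⟶ Red.bc β J),
      σK ≫ pullback.fst (C ↘ Spec (CommRingCat.of k)) β = β ≫ σ ∧
      Jac.IsAbelJacobiAt (CK β C ↘ Spec (CommRingCat.of K)) σK ψK jK ∧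
      ∀ x, flPt β (x ≫ jK) = flC β x ≫ j := by
  let σK : Spec (CommRingCat.of K) ⟶ CK β C := pullback.lift (β ≫ σ) (𝟙 _) (by
    rw [Category.assoc]
    exact (congrArg (β ≫ ·) hσ).trans ((Category.comp_id _).trans (Category.id_comp _).symm))
  have hσK : σK ≫ (CK β C ↘ Spec (CommRingCat.of K)) = 𝟙 _ := pullback.lift_snd _ _ _
  obtain ⟨L', hAJ', hL'⟩ := exists_ajFamily hdimK σK hσK
  refine ⟨σK, hσK, ψK.app _ L' trivial hL', pullback.lift_fst _ _ _, ⟨trivial, L', hL', hAJ', rfl⟩, fun x => ?_⟩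
  obtain ⟨hP, L, hL, hAJ, hLj⟩ := hj
  have hi := iota_abel hdimK (Red.bc β J) ψK hJK σK hσK _ ⟨trivial, L', hL', hAJ', rfl⟩ x
  have key := pc_ajFamily hdim β σ hAJ hσ
  let xσ : 𝟙_ (Over (Spec (CommRingCat.of K))) ⟶ Over.mk (CK β C ↘ Spec (CommRingCat.of K)) := Over.homMk σK hσK
  have k1 := key (flC β xσ) ⟨σK, hσK⟩ rfl
  have k2 := key (flC β x) ⟨x.left, Over.w x⟩ rfl
  let v : Over.mk β ⟶ 𝟙_ (Over (Spec (CommRingCat.of k))) := Over.homMk β (Category.comp_id _)
  have hv : flC β xσ = v ≫ (Over.homMk σ hσ : 𝟙_ (Over (Spec (CommRingCat.of k))) ⟶ Over.mk (C ↘ Spec (CommRingCat.of k))) := Over.OverMorphism.ext (pullback.lift_fst _ _ _)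
  have h1 : pc (PicF.XTmap (C ↘ Spec (CommRingCat.of k)) (flC β xσ)) (PicGrp.cls L hAJ.1) = 1 := by
    rw [hv, ← pc_map_map (C ↘ Spec (CommRingCat.of k)) v _, pc_base_aj hdim σ hσ hAJ, map_one]
  rw [h1, _root_.one_mul] at k1
  rw [← k1, ← eq_mul_inv_iff_mul_eq] at k2
  have hc : ∀ t, PicTan20.degCl (C ↘ Spec (CommRingCat.of k)) (Over.mk β) t
      (pc (PicF.XTmap (C ↘ Spec (CommRingCat.of k)) (flC β x)) (famCls _ 0 hL)).1 = 0 := fun t =>
    (PicTan20.degCl_pull _ (flC β x) t (famCls _ 0 hL).2).trans (degCl_famCls _ hdim 0 hL _)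
  rw [← comp_abel hdim hξ hψ hL hLj (flC β x) hc]
  exact flPt_eq_classify β hdim hdimK hξ hψK hJK _ _ (hi.trans k2.symm) hc

end Groth.Agent.JacBC22
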