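import Groth.Agent.Lib.JacBC22.Theta
import Groth.Agent.Lib.Torelli22.CurveIsoField
import Mathlib.FieldTheory.Galois.Infinite

/-!
# Descent of an isomorphism of curves embedded in a group scheme
-/

set_option autoImplicit false
set_option linter.style.haveILetI false
set_option linter.unusedSectionVars false
set_option backward.isDefEq.respectTransparency false
set_option backward.isDefEq.respectTransparency.types false
set_option maxHeartbeats 1000000

universe u

open CategoryTheory CategoryTheory.Limits AlgebraicGeometry TopologicalSpace Opposite MonoidalCategory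
  CartesianMonoidalCategory MonObj
open scoped CategoryTheory.Obj

noncomputable section

namespace Groth.Agent.JacBC22

open Groth.Agent.JacPts22 Groth.Agent.Torelli22

variable (k : Type u) [Field k]

/-- The extension to an algebraic closure. -/
abbrev βa : Spec (CommRingCat.of (AlgebraicClosure k)) ⟶ Spec (CommRingCat.of k) :=
  Spec.map (CommRingCat.ofHom (algebraMap k (AlgebraicClosure k)))

variable {k}

/-- An automorphism of the algebraic closure acting on the base. -/
abbrev autHom (τ : AlgebraicClosure k ≃ₐ[k] AlgebraicClosure k) : Over.mk (βa k) ⟶ Over.mk (βa k) :=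
  Over.homMk (Spec.map (CommRingCat.ofHom τ.toRingEquiv.toRingHom)) (by
    show Spec.map _ ≫ Spec.map _ = Spec.map _
    rw [← Spec.map_comp]
    congr 1
    ext x
    exact τ.commutes x)

theorem autHom_symm (τ : AlgebraicClosure k ≃ₐ[k] AlgebraicClosure k) : autHom τ.symm ≫ autHom τ = 𝟙 _ := by
  refine Over.OverMorphism.ext ?_
  show Spec.map _ ≫ Spec.map _ = 𝟙 _
  rw [← Spec.map_comp, ← Spec.map_id]
  congr 1
  ext x
  exact τ.symm_apply_apply x

theorem isPullback_map {S S' : Scheme.{u}} (β : S' ⟶ S) {X Y : Over S} (F : X ⟶ Y) :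
    IsPullback (pullback.fst X.hom β) ((Over.pullback β).map F).left F.left (pullback.fst Y.hom β) := by
  refine IsPullback.of_bot ?_ ?_ (IsPullback.of_hasPullback Y.hom β)
  · have h : ((Over.pullback β).map F).left ≫ pullback.snd Y.hom β = pullback.snd X.hom β := Over.w _
    rw [h, Over.w F]
    exact IsPullback.of_hasPullback _ _
  · exact (pullback.lift_fst _ _ _).symm

variable [PerfectField k]

/-- A geometric point fixed by the Galois group is rational. -/
theorem exists_rational_of_fixed {J : Over (Spec (CommRingCat.of k))} (b : Over.mk (βa k) ⟶ J)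
    (h : ∀ τ, autHom τ ≫ b = b) :
    ∃ b₀ : 𝟙_ (Over (Spec (CommRingCat.of k))) ⟶ J, toBase (βa k) ≫ b₀ = b := by
  haveI : IsGalois k (AlgebraicClosure k) := by
    haveI : Algebra.IsSeparable k (AlgebraicClosure k) := inferInstance
    exact ⟨⟩
  let K := AlgebraicClosure k
  let p := (Scheme.SpecToEquivOfField K J.left b.left).1
  let φ : J.left.residueField p ⟶ CommRingCat.of K := (Scheme.SpecToEquivOfField K J.left b.left).2
  have hb : Spec.map φ ≫ J.left.fromSpecResidueField p = b.left :=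
    (Scheme.SpecToEquivOfField K J.left).symm_apply_apply b.left
  have hfix : ∀ (τ : K ≃ₐ[k] K) (x : J.left.residueField p), τ (φ.hom x) = φ.hom x := fun τ x => by
    have h1 : (Scheme.SpecToEquivOfField K J.left).symm ⟨p, φ ≫ CommRingCat.ofHom τ.toRingEquiv.toRingHom⟩ =
        (Scheme.SpecToEquivOfField K J.left).symm ⟨p, φ⟩ := by
      show Spec.map (φ ≫ CommRingCat.ofHom τ.toRingEquiv.toRingHom) ≫ _ = Spec.map φ ≫ _
      rw [Spec.map_comp, Category.assoc, hb]
      exact congrArg (fun g : Over.mk (βa k) ⟶ J => g.left) (h τ)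
    have h2 := (Scheme.SpecToEquivOfField K J.left).symm.injective h1
    simp only [Sigma.mk.injEq, heq_eq_eq, true_and] at h2
    exact congrArg (fun f : J.left.residueField p ⟶ CommRingCat.of K => f.hom x) h2
  have hrange : ∀ x, φ.hom x ∈ Set.range (algebraMap k K) := fun x =>
    (InfiniteGalois.mem_range_algebraMap_iff_fixed _).2 fun τ => hfix τ x
  choose ρ hρ using hrange
  let ρ' : J.left.residueField p →+* k :=
    { toFun := ρ
      map_one' := (algebraMap k K).injective (by rw [hρ, map_one, map_one])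
      map_mul' := fun x y => (algebraMap k K).injective (by rw [hρ, map_mul, map_mul, hρ, hρ])
      map_zero' := (algebraMap k K).injective (by rw [hρ, map_zero, map_zero])
      map_add' := fun x y => (algebraMap k K).injective (by rw [hρ, map_add, map_add, hρ, hρ]) }
  let s : Spec (CommRingCat.of k) ⟶ J.left := Spec.map (CommRingCat.ofHom ρ') ≫ J.left.fromSpecResidueField p
  have hs : βa k ≫ s = b.left := by
    show Spec.map _ ≫ Spec.map _ ≫ _ = _
    rw [← Category.assoc, ← Spec.map_comp, ← hb]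
    congr 2
    ext x
    exact hρ x
  have hover : s ≫ J.hom = 𝟙 _ := by
    have h2 : βa k ≫ (s ≫ J.hom) = βa k ≫ 𝟙 _ := by
      rw [← Category.assoc, hs, Category.comp_id]
      exact Over.w b
    obtain ⟨f, hf⟩ := Spec.map_surjective (s ≫ J.hom)
    rw [← hf, ← Spec.map_id, ← Spec.map_comp, ← Spec.map_comp, Spec.map_inj] at h2
    rw [← hf, ← Spec.map_id]
    congr 1
    ext x
    exact (algebraMap k K).injective (congrArg (fun r : CommRingCat.of k ⟶ CommRingCat.of K => r.hom x) h2)
  exact ⟨Over.homMk s hover, Over.OverMorphism.ext hs⟩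

omit [PerfectField k] in
/-- Points of the image of a proper scheme lift to geometric points. -/
theorem exists_lift_pt {K : Type u} [Field K] [IsAlgClosed K] {β : Spec (CommRingCat.of K) ⟶ Spec (CommRingCat.of k)}
    {P J : Over (Spec (CommRingCat.of k))} [IsProper P.hom] [IsSeparated J.hom] (G : P ⟶ J) (v : Over.mk β ⟶ J)
    (h : v.left (IsLocalRing.closedPoint K) ∈ Set.range G.left.base) : ∃ y : Over.mk β ⟶ P, y ≫ G = v := by
  haveI : IsProper (G.left ≫ J.hom) := by rw [Over.w G]; infer_instance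
  haveI : IsProper G.left := IsProper.of_comp G.left J.hom
  let Z : Over (Spec (CommRingCat.of K)) := Over.mk (pullback.snd G.left v.left)
  haveI : IsProper Z.hom := MorphismProperty.pullback_snd (P := @IsProper) _ _ inferInstance
  obtain ⟨q, hq⟩ := h
  obtain ⟨z, -, -⟩ := Scheme.Pullback.exists_preimage_pullback (f := G.left) (g := v.left) q _ hq
  obtain ⟨x, -⟩ := exists_point_mem (P := Z) (Z := Set.univ) isClosed_univ.isLocallyClosed ⟨z, Set.mem_univ _⟩
  have hx : x.left ≫ pullback.snd G.left v.left = 𝟙 _ := Over.w x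
  have hG : (x.left ≫ pullback.fst G.left v.left) ≫ G.left = v.left := by
    rw [Category.assoc, pullback.condition, ← Category.assoc, hx]
    exact Category.id_comp _
  refine ⟨Over.homMk (x.left ≫ pullback.fst G.left v.left) ?_, Over.OverMorphism.ext hG⟩
  rw [← Over.w G, ← Category.assoc, hG]
  exact Over.w v

variable {C C' : Scheme.{u}} [C.Over (Spec (CommRingCat.of k))] [C'.Over (Spec (CommRingCat.of k))]
  [IsProper (C ↘ Spec (CommRingCat.of k))] [IsProper (C' ↘ Spec (CommRingCat.of k))] [IsIntegral C] [IsIntegral C']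
  [IsIntegral (CK (βa k) C)] [IsIntegral (CK (βa k) C')]

/-- Two embedded curves, one a translate of the other over an algebraic closure, are isomorphic. -/
theorem exists_iso_of_translate {J : Over (Spec (CommRingCat.of k))} [GrpObj J] [IsCommMonObj J]
    (hdim : topologicalKrullDim C = 1) (hdim' : topologicalKrullDim C' = 1)
    (hdimK : topologicalKrullDim (CK (βa k) C) = 1) (hdimK' : topologicalKrullDim (CK (βa k) C') = 1)
    (F : Over.mk (C ↘ Spec (CommRingCat.of k)) ⟶ J) (G : Over.mk (C' ↘ Spec (CommRingCat.of k)) ⟶ J)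
    [IsClosedImmersion F.left] [IsClosedImmersion G.left]
    (hstab : ∀ t : Over.mk (βa k) ⟶ J, (∀ y, ∃ y', (y ≫ G) * t = y' ≫ G) → (∀ y, ∃ y', (y ≫ G) * t⁻¹ = y' ≫ G) → t = 1)
    {b : Over.mk (βa k) ⟶ J} (hb : ∀ y, ∃ x, (y ≫ G) * b = x ≫ F) :
    ∃ α : C ≅ C', α.hom ≫ (C' ↘ Spec (CommRingCat.of k)) = (C ↘ Spec (CommRingCat.of k)) := by
  haveI : IsSeparated J.hom := AbRigid.isSeparated_of_grpObj J
  let β := βa k
  let K := AlgebraicClosure k
  haveI : IsSeparated (Red.bc β J).hom := inferInstanceAs (IsSeparated (pullback.snd J.hom β))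
  haveI : IsProper (CK β C ↘ Spec (CommRingCat.of K)) :=
    MorphismProperty.pullback_snd (P := @IsProper) _ _ ‹IsProper (C ↘ Spec (CommRingCat.of k))›
  haveI : IsProper (CK β C' ↘ Spec (CommRingCat.of K)) :=
    MorphismProperty.pullback_snd (P := @IsProper) _ _ ‹IsProper (C' ↘ Spec (CommRingCat.of k))›
  let FK : Over.mk (CK β C ↘ Spec (CommRingCat.of K)) ⟶ Red.bc β J := (Over.pullback β).map F
  obtain ⟨zb, hzb⟩ : ∃ zb, flPt β zb = b := by
    obtain ⟨z, hz⟩ := DiagGL.fl_surjective β J ((Over.homMk (𝟙 _) (by simp) : (Over.map β).obj (T₀ K) ⟶ Over.mk β) ≫ b)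
    refine ⟨z, ?_⟩
    show unit β ≫ DiagGL.fl β J z = b
    rw [hz]
    exact (Category.assoc _ _ _).symm.trans
      ((congrArg (· ≫ b) (Over.OverMorphism.ext (Category.id_comp _) : _ = 𝟙 (Over.mk β))).trans (Category.id_comp b))
  let GK : Over.mk (CK β C' ↘ Spec (CommRingCat.of K)) ⟶ Red.bc β J := (Over.pullback β).map G
  let Gb := GK ≫ Jac.transl (Red.bc β J) zb
  have hF : ∀ x, flPt β (x ≫ FK) = flC β x ≫ F := fun x => by
    refine Over.OverMorphism.ext ?_
    show 𝟙 _ ≫ (x.left ≫ FK.left) ≫ pullback.fst J.hom β = (x.left ≫ pullback.fst _ β) ≫ F.left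
    rw [Category.id_comp, Category.assoc, Category.assoc]
    exact congrArg (x.left ≫ ·) (pullback.lift_fst _ _ _)
  have hG : ∀ x, flPt β (x ≫ Gb) = (flC β x ≫ G) * b := fun x => by
    rw [← Category.assoc, point_comp_transl, flPt_mul, hzb]
    congr 1
    refine Over.OverMorphism.ext ?_
    show 𝟙 _ ≫ (x.left ≫ GK.left) ≫ pullback.fst J.hom β = (x.left ≫ pullback.fst _ β) ≫ G.left
    rw [Category.id_comp, Category.assoc, Category.assoc]
    exact congrArg (x.left ≫ ·) (pullback.lift_fst _ _ _)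
  haveI : IsClosedImmersion FK.left :=
    MorphismProperty.of_isPullback (P := @IsClosedImmersion) (isPullback_map β F) inferInstance
  haveI : IsClosedImmersion GK.left :=
    MorphismProperty.of_isPullback (P := @IsClosedImmersion) (isPullback_map β G) inferInstance
  haveI : IsIso (Jac.transl (Red.bc β J) zb).left := Riemann22.isIso_transl zb
  haveI : IsClosedImmersion Gb.left :=
    inferInstanceAs (IsClosedImmersion (GK.left ≫ (Jac.transl (Red.bc β J) zb).left))
  have hsub : Set.range Gb.left.base ⊆ Set.range FK.left.base := by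
    haveI : IsProper (Over.mk (CK β C' ↘ Spec (CommRingCat.of K))).hom := ‹IsProper (CK β C' ↘ Spec (CommRingCat.of K))›
    haveI : IsProper (Over.mk (CK β C ↘ Spec (CommRingCat.of K))).hom := ‹IsProper (CK β C ↘ Spec (CommRingCat.of K))›
    refine JacPts22.range_subset Gb (JacPts22.isClosed_range FK) fun x => ?_
    obtain ⟨y, hy⟩ := hb (flC β x)
    obtain ⟨x', hx'⟩ := flC_surjective β y
    have : x ≫ Gb = x' ≫ FK := flPt_injective β (by rw [hG, hF, hx', hy])
    exact this ▸ pt_comp_mem FK x'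
  haveI : IsIntegral (Over.mk (CK β C ↘ Spec (CommRingCat.of K))).left := ‹IsIntegral (CK β C)›
  haveI : IsIntegral (Over.mk (CK β C' ↘ Spec (CommRingCat.of K))).left := ‹IsIntegral (CK β C')›
  obtain ⟨α, hα⟩ := exists_iso_of_range_subset FK.left Gb.left hdimK hdimK' hsub
  have hback : ∀ x, ∃ y, (y ≫ G) * b = x ≫ F := fun x => by
    obtain ⟨x', rfl⟩ := flC_surjective β x
    have hw : (x'.left ≫ α.hom) ≫ (CK β C' ↘ Spec (CommRingCat.of K)) = 𝟙 _ := by
      rw [Category.assoc, show (CK β C' ↘ Spec (CommRingCat.of K)) = Gb.left ≫ (Red.bc β J).hom from (Over.w Gb).symm,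
        ← Category.assoc α.hom, hα, Over.w FK]
      exact Over.w x'
    let z : 𝟙_ (Over (Spec (CommRingCat.of K))) ⟶ Over.mk (CK β C' ↘ Spec (CommRingCat.of K)) :=
      Over.homMk (x'.left ≫ α.hom) hw
    refine ⟨flC β z, ?_⟩
    rw [← hG, ← hF]
    refine congrArg (flPt β) (Over.OverMorphism.ext ?_)
    show (x'.left ≫ α.hom) ≫ Gb.left = x'.left ≫ FK.left
    rw [Category.assoc, hα]
  have hfix : ∀ τ, autHom τ ≫ b = b := fun τ => by
    refine mul_inv_eq_one.1 (hstab _ (fun y => ?_) fun y => ?_)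
    rotate_left
    · obtain ⟨x, hx⟩ := hb y
      obtain ⟨y₁, hy₁⟩ := hback (autHom τ.symm ≫ x)
      refine ⟨autHom τ ≫ y₁, ?_⟩
      have h1 := congrArg (autHom τ ≫ ·) hy₁
      have h2 : autHom τ ≫ autHom τ.symm = 𝟙 (Over.mk β) := autHom_symm τ.symm
      rw [MonObj.comp_mul, ← Category.assoc (autHom τ) y₁ G, ← Category.assoc (autHom τ), ← Category.assoc (autHom τ) (autHom τ.symm) x] at h1
      erw [h2, Category.id_comp] at h1
      rw [mul_inv, inv_inv, _root_.mul_comm (autHom τ ≫ b)⁻¹, ← _root_.mul_assoc, mul_inv_eq_iff_eq_mul, hx, h1]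
    obtain ⟨x, hx⟩ := hb (autHom τ.symm ≫ y)
    have h1 := congrArg (autHom τ ≫ ·) hx
    have h2 : autHom τ ≫ autHom τ.symm = 𝟙 (Over.mk β) := autHom_symm τ.symm
    rw [MonObj.comp_mul, ← Category.assoc (autHom τ), ← Category.assoc (autHom τ) (autHom τ.symm) y] at h1
    erw [h2, Category.id_comp] at h1
    rw [← Category.assoc (autHom τ) x F] at h1
    obtain ⟨y', hy'⟩ := hback (autHom τ ≫ x)
    refine ⟨y', ?_⟩
    rw [← _root_.mul_assoc, mul_inv_eq_iff_eq_mul, h1, hy']
  obtain ⟨b₀, hb₀⟩ := exists_rational_of_fixed b hfix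
  let G₀ := G ≫ Jac.transl J b₀
  haveI : IsIso (Jac.transl J b₀).left := by
    haveI : IsIso (Jac.transl J b₀) := ⟨Jac.transl J b₀⁻¹,
      by rw [comp_transl, Jac.transl, _root_.mul_assoc, ← MonObj.comp_mul, mul_inv_cancel, MonObj.comp_one, _root_.mul_one],
      by rw [comp_transl, Jac.transl, _root_.mul_assoc, ← MonObj.comp_mul, inv_mul_cancel, MonObj.comp_one, _root_.mul_one]⟩
    exact (inferInstance : IsIso ((Over.forget _).map (Jac.transl J b₀)))
  haveI : IsClosedImmersion G₀.left := inferInstanceAs (IsClosedImmersion (G.left ≫ (Jac.transl J b₀).left))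
  have hG₀ : Set.range G₀.left.base ⊆ Set.range F.left.base := by
    haveI : IsProper (Over.mk (CK β C' ↘ Spec (CommRingCat.of K))).hom := ‹IsProper (CK β C' ↘ Spec (CommRingCat.of K))›
    haveI : JacobsonSpace C' := LocallyOfFiniteType.jacobsonSpace (C' ↘ Spec (CommRingCat.of k))
    rintro _ ⟨q, rfl⟩
    by_contra hq
    obtain ⟨Q, hQ, hQc⟩ := nonempty_inter_closedPoints (X := C') (Z := G₀.left.base ⁻¹' (Set.range F.left.base)ᶜ) ⟨q, hq⟩
      ((F.left.isClosedEmbedding.isClosed_range.isOpen_compl.preimage G₀.left.continuous).isLocallyClosed)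
    haveI : Surjective β := inferInstance
    haveI : Surjective (pullback.fst (C' ↘ Spec (CommRingCat.of k)) β) :=
      MorphismProperty.pullback_fst (P := @Surjective) _ _ inferInstance
    obtain ⟨Q', hQ'⟩ := (pullback.fst (C' ↘ Spec (CommRingCat.of k)) β).surjective Q
    obtain ⟨x, hx⟩ := exists_point_mem (P := Over.mk (CK β C' ↘ Spec (CommRingCat.of K)))
      (Z := (pullback.fst (C' ↘ Spec (CommRingCat.of k)) β).base ⁻¹' {Q})
      ((hQc : IsClosed {Q}).preimage (pullback.fst (C' ↘ Spec (CommRingCat.of k)) β).continuous).isLocallyClosed ⟨Q', hQ'⟩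
    obtain ⟨w, hw⟩ := hb (flC β x)
    refine hQ ?_
    have h1 : flC β x ≫ G₀ = w ≫ F := by
      rw [← Category.assoc, comp_transl, ← hw, ← hb₀]
      congr 2
    have h2 := congrArg (fun g : Over.mk β ⟶ J => g.left (CurvePts22.pt (𝟙 (Spec (CommRingCat.of K))))) h1
    rw [← (Set.mem_singleton_iff.1 hx : (pullback.fst (C' ↘ Spec (CommRingCat.of k)) β) (CurvePts22.pt x.left) = Q)]
    exact ⟨_, h2.symm⟩
  haveI : IsIntegral (Over.mk (C ↘ Spec (CommRingCat.of k))).left := ‹IsIntegral C›
  haveI : IsIntegral (Over.mk (C' ↘ Spec (CommRingCat.of k))).left := ‹IsIntegral C'›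
  obtain ⟨α₀, hα₀⟩ := exists_iso_of_range_subset F.left G₀.left hdim hdim' hG₀
  refine ⟨α₀, ?_⟩
  have h1 : G₀.left ≫ J.hom = (C' ↘ Spec (CommRingCat.of k)) := Over.w G₀
  have h2 : F.left ≫ J.hom = (C ↘ Spec (CommRingCat.of k)) := Over.w F
  rw [← h1, ← Category.assoc, hα₀, h2]

end Groth.Agent.JacBC22
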