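import Groth.Agent.Lib.DualAV22.Main
import Groth.Agent.Lib.DualAV22.Surj
import Groth.Agent.Lib.FpqcDesc.Basic
import Groth.Agent.Lib.Index22.Index

/-!
# The dual of an abelian variety over any field is proper and smooth
-/

set_option autoImplicit false
set_option linter.style.haveILetI false
set_option linter.unusedSectionVars false
set_option backward.isDefEq.respectTransparency false
set_option backward.isDefEq.respectTransparency.types false
set_option maxHeartbeats 1000000

universe u

open CategoryTheory CategoryTheory.Limits AlgebraicGeometry MonoidalCategory CartesianMonoidalCategory MonObj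
open scoped CategoryTheory.Obj

noncomputable section

namespace Groth.Agent.JacBC22

open Groth.Agent.AlgEquiv22

noncomputable local instance instLawJacBCDual (Y : Scheme.{u}) : PicGrp.Law Y := M2.law Y

theorem dual_props {k : Type u} [Field k] {A At : Over (Spec (CommRingCat.of k))} [GrpObj A] [GrpObj At]
    [IsProper A.hom] [GeometricallyIntegral A.hom] [IsCommMonObj A] [IsCommMonObj At] {φ : AgPol.DualMap A At}
    (hX : AbDual.IsDualAV Scheme.fppfPrecoverage A At φ) {L : A.left.Modules} (hL : CohB1.IsAmple L)
    {lam : A ⟶ At} (hlam : AgPol.IsLambda A At φ L lam) : IsProper At.hom ∧ Smooth At.hom := by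
  haveI := (DualAV22.smooth_gc (A := A)).1
  haveI := (DualAV22.smooth_gc (A := A)).2
  obtain ⟨N, hN, hs, rfl⟩ := hlam
  let K := AlgebraicClosure k
  let σ : Spec (CommRingCat.of K) ⟶ Spec (CommRingCat.of k) := Spec.map (CommRingCat.ofHom (algebraMap k K))
  haveI : IsProper (Red.bc σ A).hom := MorphismProperty.pullback_snd _ _ ‹IsProper A.hom›
  haveI : GeometricallyIntegral (Red.bc σ A).hom :=
    MorphismProperty.pullback_snd _ _ ‹GeometricallyIntegral A.hom›
  haveI : IsCommMonObj (Red.bc σ A) := inferInstance
  haveI : IsCommMonObj (Red.bc σ At) := inferInstance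
  have hd : AbDual.IsDualAV Scheme.fppfPrecoverage (Red.bc σ A) (Red.bc σ At) (AgPol.bcDual σ A At φ) := by
    rw [PolPull22.bcDual_eq]
    exact AbDual22.isDualAV_bc σ φ hX
  haveI : IsAffineHom (pullback.fst A.hom σ) := MorphismProperty.pullback_fst _ _ inferInstance
  obtain ⟨g, hg⟩ := Index22.exists_dim (A := Red.bc σ A)
  obtain ⟨hp, hsm, -⟩ := DualAV22.main hd (Amp.isAmple_pullback_of_isAffineHom (pullback.fst A.hom σ) hL)
    ((AgPol22.isLambda_bc_iff σ hX hL.1 hN hs _).2 rfl) hg
  haveI := FpqcDesc.descendsAlong_isProper.{u}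
  have hQ : (@Surjective ⊓ @Flat ⊓ @QuasiCompact : MorphismProperty Scheme.{u}) σ := ⟨⟨inferInstance, inferInstance⟩, inferInstance⟩
  exact ⟨MorphismProperty.of_pullback_snd_of_descendsAlong (P := @IsProper) hQ hp,
    MorphismProperty.of_pullback_snd_of_descendsAlong (P := @Smooth) hQ hsm⟩

end Groth.Agent.JacBC22
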