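import Groth.Agent.Lib.JacBC22.Descent
import Groth.Agent.Lib.Torelli22.System

/-!
# The sets of geometric points attached to a curve over an arbitrary field
-/

set_option autoImplicit false
set_option linter.style.haveILetI false
set_option linter.unusedSectionVars false
set_option backward.isDefEq.respectTransparency false
set_option backward.isDefEq.respectTransparency.types false
set_option maxHeartbeats 1000000
set_option synthInstance.maxHeartbeats 200000

universe u

open CategoryTheory CategoryTheory.Limits AlgebraicGeometry TopologicalSpace Opposite MonoidalCategory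
  CartesianMonoidalCategory MonObj
open scoped CategoryTheory.Obj

noncomputable section

namespace Groth.Agent.JacBC22

open Groth.Agent.PicRep20 Groth.Agent.JacPts22 Groth.Agent.Torelli22

noncomputable local instance instLawJacBCGeom (Y : Scheme.{u}) : PicGrp.Law Y := M2.law Y

variable {k : Type u} [Field k] {K : Type u} [Field K] [IsAlgClosed K]
  (β : Spec (CommRingCat.of K) ⟶ Spec (CommRingCat.of k))

theorem flPt_surjective {G : Over (Spec (CommRingCat.of k))} [GrpObj G] (b : Over.mk β ⟶ G) :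
    ∃ z, flPt β z = b := by
  obtain ⟨z, hz⟩ := DiagGL.fl_surjective β G ((Over.homMk (𝟙 _) (by simp) : (Over.map β).obj (T₀ K) ⟶ Over.mk β) ≫ b)
  refine ⟨z, ?_⟩
  show unit β ≫ DiagGL.fl β G z = b
  rw [hz]
  exact (Category.assoc _ _ _).symm.trans
    ((congrArg (· ≫ b) (Over.OverMorphism.ext (Category.id_comp _) : _ = 𝟙 (Over.mk β))).trans (Category.id_comp b))

/-- Geometric points as points over the larger field. -/
def geomEquiv (G : Over (Spec (CommRingCat.of k))) [GrpObj G] :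
    (Over.mk β ⟶ G) ≃* (𝟙_ (Over (Spec (CommRingCat.of K))) ⟶ Red.bc β G) :=
  ((MulEquiv.ofBijective (MonoidHom.mk' (flPt β) (flPt_mul β))
    ⟨flPt_injective β, flPt_surjective β⟩)).symm

theorem geomEquiv_symm {G : Over (Spec (CommRingCat.of k))} [GrpObj G]
    (z : 𝟙_ (Over (Spec (CommRingCat.of K))) ⟶ Red.bc β G) : (geomEquiv β G).symm z = flPt β z := rfl

/-- Closed sets of geometric points. -/
def ClG (G : Over (Spec (CommRingCat.of k))) [GrpObj G] (F : Set (Over.mk β ⟶ G)) : Prop :=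
  ClPts (Red.bc β G) ((geomEquiv β G).symm ⁻¹' F)

theorem clG_inv {G : Over (Spec (CommRingCat.of k))} [GrpObj G] {F} (h : ClG β G F) : ClG β G {v | v⁻¹ ∈ F} := by
  have := clPts_inv (J := Red.bc β G) h
  show ClPts (Red.bc β G) _
  refine Eq.mp (congrArg (ClPts (Red.bc β G)) ?_) this
  ext z
  show (geomEquiv β G).symm z⁻¹ ∈ F ↔ ((geomEquiv β G).symm z)⁻¹ ∈ F
  rw [map_inv]

theorem clG_preimage {G H : Over (Spec (CommRingCat.of k))} [GrpObj G] [GrpObj H] (f : G ⟶ H) {F}
    (h : ClG β H F) : ClG β G {v | v ≫ f ∈ F} := by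
  have := clPts_preimage ((Over.pullback β).map f) h
  show ClPts (Red.bc β G) _
  refine Eq.mp (congrArg (ClPts (Red.bc β G)) ?_) this
  ext z
  show flPt β (z ≫ (Over.pullback β).map f) ∈ F ↔ flPt β z ≫ f ∈ F
  rw [show flPt β (z ≫ (Over.pullback β).map f) = flPt β z ≫ f by
    show unit β ≫ DiagGL.fl β H (z ≫ (Over.pullback β).map f) = (unit β ≫ DiagGL.fl β G z) ≫ f
    rw [DiagGL.fl_comp_map, Category.assoc]]

variable {C : Scheme.{u}} [C.Over (Spec (CommRingCat.of k))]
  [IsProper (C ↘ Spec (CommRingCat.of k))] [Smooth (C ↘ Spec (CommRingCat.of k))]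
  [GeometricallyConnected (C ↘ Spec (CommRingCat.of k))] [IsIntegral C]
  [GeometricallyIrreducible (C ↘ Spec (CommRingCat.of k))] (hdim : topologicalKrullDim C = 1)
  {J : Over (Spec (CommRingCat.of k))} [GrpObj J] [IsCommMonObj J]
  {ψ : (ModFun.PicDeg (C ↘ Spec (CommRingCat.of k)) 0).Hom ⊤ J}
  (hJ : Jac.IsJacobian (C ↘ Spec (CommRingCat.of k)) ⊤ J ψ)
  {σ : Spec (CommRingCat.of k) ⟶ C} (hσ : σ ≫ (C ↘ Spec (CommRingCat.of k)) = 𝟙 _)
  {j : Over.mk (C ↘ Spec (CommRingCat.of k)) ⟶ J} (hj : Jac.IsAbelJacobiAt (C ↘ Spec (CommRingCat.of k)) σ ψ j)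
  {g : ℕ} (hg : Curv2.genus k C = g) (hg2 : 2 ≤ g)

include hdim hJ hσ hj hg hg2

set_option maxHeartbeats 2000000 in
theorem exists_sys_geom :
    (∃ S : Sys (ClG β J) g, ∀ n v, v ∈ S.W n ↔ ∃ y : Over.mk β ⟶ pw k C n, y ≫ sumMap j n = v) ∧
      ∀ t : Over.mk β ⟶ J, (∀ y, ∃ y', (y ≫ j) * t = y' ≫ j) → (∀ y, ∃ y', (y ≫ j) * t⁻¹ = y' ≫ j) → t = 1 := by
  obtain ⟨hJp, -, -, ξ, hξ, hψ⟩ := exists_fine _ hdim σ hσ J ψ hJ.coarse.2.1
  obtain ⟨h1, h2, h3, h4, h5, hdimK, hgK⟩ := setup β hdim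
  haveI := h1; haveI := h2; haveI := h3; haveI := h4; haveI := h5
  obtain ⟨ψK, hJK, hψK⟩ := exists_jacobian_bc β hdim hdimK hξ hψ hJ
  obtain ⟨σK, hσK, jK, hfst, hjK, hflj⟩ := exists_abel_bc β hdim hdimK hξ hψ hψK hJK hσ hj
  haveI : IsSeparated (Red.bc β J).hom := AbRigid.isSeparated_of_grpObj _
  have hgK' : Curv2.genus K (CK β C) = g := hgK.trans hg
  obtain ⟨S₀, hS⟩ := exists_sys hdimK σK hσK ψK hJK jK hjK hgK' hg2
  let e := geomEquiv β J
  refine ⟨⟨Sys.map e (fun F hF => by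
      show ClPts (Red.bc β J) _
      refine Eq.mp (congrArg (ClPts (Red.bc β J)) ?_) hF
      ext z; simp [Set.preimage, e]) (fun F hF => hF) S₀, fun n v => ?_⟩, fun t ht ht' => ?_⟩
  · show e v ∈ S₀.W n ↔ _
    obtain ⟨z, rfl⟩ : ∃ z, flPt β z = v := flPt_surjective β v
    rw [show e (flPt β z) = z from e.apply_symm_apply z, hS, pt_mem_range_iff]
    let Φ : (𝟙_ (Over (Spec (CommRingCat.of K))) ⟶ Red.bc β J) →* (Over.mk β ⟶ J) :=
      MonoidHom.mk' (flPt β) (flPt_mul β)
    have hsum : ∀ (x : 𝟙_ (Over (Spec (CommRingCat.of K))) ⟶ pw K (CK β C) n) (y : Over.mk β ⟶ pw k C n),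
        (∀ i, y ≫ prj i = flC β (x ≫ prj i)) → Φ (x ≫ sumMap jK n) = y ≫ sumMap j n := fun x y hxy => by
      rw [Riemann22.comp_sumMap, Riemann22.comp_sumMap, map_prod]
      exact Finset.prod_congr rfl fun i _ => by rw [hxy]; exact hflj _
    constructor
    · rintro ⟨x, rfl⟩
      exact ⟨Over.homMk (WidePullback.lift β (fun i => (flC β (x ≫ prj i)).left) fun i => Over.w (flC β (x ≫ prj i)))
        (WidePullback.lift_base _ _ _ _), (hsum x _ fun i => Over.OverMorphism.ext (WidePullback.lift_π _ _ _ _ i)).symm⟩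
    · rintro ⟨y, hy⟩
      choose xc hxc using fun i => flC_surjective β (y ≫ prj i)
      refine ⟨mkPt (fun i => (⟨(xc i).left, Over.w (xc i)⟩ : Torelli22.Pts K (CK β C))), flPt_injective β ?_⟩
      show Φ _ = Φ _
      rw [hsum _ y fun i => by rw [Riemann22.mkPt_prj xc i, hxc i]]
      exact hy
  · obtain ⟨z, rfl⟩ := flPt_surjective β t
    have hx : ∀ q : Torelli22.Pts K (CK β C), ∃ q' : Torelli22.Pts K (CK β C),
        P hdimK q' * iota hdimK _ ψK hJK z = P hdimK q := fun q => by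
      obtain ⟨y', hy'⟩ := ht (flC β (Over.homMk q.1 q.2))
      obtain ⟨x', rfl⟩ := flC_surjective β y'
      rw [← hflj, ← hflj, ← flPt_mul] at hy'
      have h := congrArg (iota hdimK _ ψK hJK) (flPt_injective β hy')
      rw [map_mul, iota_abel hdimK _ ψK hJK σK hσK jK hjK, iota_abel hdimK _ ψK hJK σK hσK jK hjK,
        _root_.mul_assoc, mul_right_inj, inv_mul_eq_iff_eq_mul, eq_mul_inv_iff_mul_eq] at h
      exact ⟨⟨x'.left, Over.w x'⟩, (_root_.mul_comm _ _).trans h⟩
    choose a ha using hx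
    have hg' : 2 ≤ Curv2.genus K (CK β C) := hgK'.symm ▸ hg2
    by_cases hfix : ∀ q, a q ≠ q
    · refine (no_translation hdimK hg' ⟨σK, hσK⟩ a (fun q q' h => P_injective hdimK (by omega) ?_) ?_ ?_ hfix).elim
      · rw [← ha q, ← ha q', h]
      · intro q'
        obtain ⟨y', hy'⟩ := ht' (flC β (Over.homMk q'.1 q'.2))
        obtain ⟨x', rfl⟩ := flC_surjective β y'
        rw [← hflj, ← hflj, mul_inv_eq_iff_eq_mul, ← flPt_mul] at hy'
        have h := congrArg (iota hdimK _ ψK hJK) (flPt_injective β hy')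
        rw [map_mul, iota_abel hdimK _ ψK hJK σK hσK jK hjK, iota_abel hdimK _ ψK hJK σK hσK jK hjK,
          _root_.mul_assoc, mul_right_inj, eq_inv_mul_iff_mul_eq, mul_inv_eq_iff_eq_mul] at h
        refine ⟨⟨x'.left, Over.w x'⟩, P_injective hdimK (by omega) (mul_right_cancel ((ha _).trans ?_))⟩
        exact h.trans (_root_.mul_comm _ _)
      · intro q q'
        rw [← ha q', ← ha q, ← _root_.mul_assoc, _root_.mul_right_comm]
    · push Not at hfix
      obtain ⟨q, hq⟩ := hfix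
      have h := ha q
      rw [hq, _root_.mul_eq_left] at h
      have hz : z = 1 := iota_injective hdimK _ ψK hJK (h.trans (map_one _).symm)
      rw [hz]
      exact map_one (MonoidHom.mk' (flPt β) (flPt_mul β) : (𝟙_ (Over (Spec (CommRingCat.of K))) ⟶ Red.bc β J) →* (Over.mk β ⟶ J))

end Groth.Agent.JacBC22
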