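import Groth.Agent.Lib.JacBC22.Univ
import Groth.Agent.Lib.JacPts22.Reflect

/-!
# Jacobians after an extension of the ground field to an algebraically closed one
-/

set_option autoImplicit false
set_option linter.style.haveILetI false
set_option linter.unusedSectionVars false
set_option backward.isDefEq.respectTransparency false
set_option backward.isDefEq.respectTransparency.types false
set_option maxHeartbeats 1000000

universe u

open CategoryTheory CategoryTheory.Limits AlgebraicGeometry TopologicalSpace Opposite MonoidalCategory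
  CartesianMonoidalCategory MonObj
open scoped CategoryTheory.Obj

noncomputable section

namespace Groth.Agent.JacBC22

open Groth.Agent.Abel10 (pc pc_comp pc_id)
open Groth.Agent.Abel10 Groth.Agent.PicRep20 Groth.Agent.AbDual22 Groth.Agent.JacPts22

noncomputable local instance instLawJacBC (Y : Scheme.{u}) : PicGrp.Law Y := M2.law Y

variable {k : Type u} [Field k] {K : Type u} [Field K]
  (β : Spec (CommRingCat.of K) ⟶ Spec (CommRingCat.of k))
  (C : Scheme.{u}) [C.Over (Spec (CommRingCat.of k))]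

/-- The curve over the larger field. -/
abbrev CK : Scheme.{u} := (Red.bc β (Over.mk (C ↘ Spec (CommRingCat.of k)))).left

instance overCK : (CK β C).Over (Spec (CommRingCat.of K)) := ⟨fK β (C ↘ Spec (CommRingCat.of k))⟩

variable {C} [IsProper (C ↘ Spec (CommRingCat.of k))] [Smooth (C ↘ Spec (CommRingCat.of k))]
  [GeometricallyConnected (C ↘ Spec (CommRingCat.of k))] [IsIntegral C]
  [GeometricallyIrreducible (C ↘ Spec (CommRingCat.of k))] (hdim : topologicalKrullDim C = 1)

include hdim in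
theorem setup [IsAlgClosed K] :
    IsProper (CK β C ↘ Spec (CommRingCat.of K)) ∧ Smooth (CK β C ↘ Spec (CommRingCat.of K)) ∧
      GeometricallyConnected (CK β C ↘ Spec (CommRingCat.of K)) ∧ IsIntegral (CK β C) ∧
      GeometricallyIrreducible (CK β C ↘ Spec (CommRingCat.of K)) ∧ topologicalKrullDim (CK β C) = 1 ∧
      Curv2.genus K (CK β C) = Curv2.genus k C := by
  obtain ⟨h1, h2, h3, h4, h5⟩ := fieldPt_setup hdim β
  haveI : GeometricallyConnected (Over.mk (C ↘ Spec (CommRingCat.of k))).hom := ‹GeometricallyConnected (C ↘ Spec (CommRingCat.of k))›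
  haveI : GeometricallyIrreducible (Over.mk (C ↘ Spec (CommRingCat.of k))).hom := ‹GeometricallyIrreducible (C ↘ Spec (CommRingCat.of k))›
  exact ⟨h1, h2, MorphismProperty.pullback_snd (P := @GeometricallyConnected) _ _ inferInstance, h3,
    MorphismProperty.pullback_snd (P := @GeometricallyIrreducible) _ _ inferInstance, h4, h5⟩

/-- A point over the larger field, read over the smaller one. -/
abbrev unit : Over.mk β ⟶ (Over.map β).obj (T₀ K) := Over.homMk (𝟙 _) (by simp)

/-- A point over the larger field as a morphism over the smaller one. -/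
abbrev flPt {G : Over (Spec (CommRingCat.of k))} [GrpObj G]
    (z : 𝟙_ (Over (Spec (CommRingCat.of K))) ⟶ Red.bc β G) : Over.mk β ⟶ G :=
  unit β ≫ DiagGL.fl β G z

theorem flPt_mul {G : Over (Spec (CommRingCat.of k))} [GrpObj G]
    (z w : 𝟙_ (Over (Spec (CommRingCat.of K))) ⟶ Red.bc β G) : flPt β (z * w) = flPt β z * flPt β w := by
  show unit β ≫ DiagGL.fl β G (z * w) = _
  rw [DiagGL.fl_mul, MonObj.comp_mul]

theorem flPt_injective {G : Over (Spec (CommRingCat.of k))} [GrpObj G] :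
    Function.Injective (flPt β : (𝟙_ (Over (Spec (CommRingCat.of K))) ⟶ Red.bc β G) → _) := fun z w h =>
  DiagGL.fl_injective β G ((cancel_epi (unit β)).1 h)

section

variable [IsProper (CK β C ↘ Spec (CommRingCat.of K))] [Smooth (CK β C ↘ Spec (CommRingCat.of K))]
  [GeometricallyConnected (CK β C ↘ Spec (CommRingCat.of K))] [IsIntegral (CK β C)]
  [GeometricallyIrreducible (CK β C ↘ Spec (CommRingCat.of K))] (hdimK : topologicalKrullDim (CK β C) = 1)
  {J : Over (Spec (CommRingCat.of k))} [GrpObj J] [IsCommMonObj J]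
  {ξ : PicLoc.PicSet (PicF.XT (C ↘ Spec (CommRingCat.of k)) J)}
  (hξ : IsUnivClass (C ↘ Spec (CommRingCat.of k)) 0 J ξ)

include hdim hdimK hξ

theorem univ_K : IsUnivClass (CK β C ↘ Spec (CommRingCat.of K)) 0 (Red.bc β J) (univBC β _ ξ) := by
  haveI : IsProper (fK β (C ↘ Spec (CommRingCat.of k))) := ‹IsProper (CK β C ↘ Spec (CommRingCat.of K))›
  haveI : Smooth (fK β (C ↘ Spec (CommRingCat.of k))) := ‹Smooth (CK β C ↘ Spec (CommRingCat.of K))›
  haveI : GeometricallyConnected (fK β (C ↘ Spec (CommRingCat.of k))) := ‹GeometricallyConnected (CK β C ↘ Spec (CommRingCat.of K))›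
  haveI : GeometricallyIrreducible (fK β (C ↘ Spec (CommRingCat.of k))) := ‹GeometricallyIrreducible (CK β C ↘ Spec (CommRingCat.of K))›
  exact isUnivClass_bc β _ hdim hdimK hξ

set_option maxHeartbeats 2000000 in
theorem exists_jacobian_bc {ψ : (ModFun.PicDeg (C ↘ Spec (CommRingCat.of k)) 0).Hom ⊤ J}
    (hψ : ∀ (T : Over (Spec (CommRingCat.of k))) (x : (ModFun.PicDeg (C ↘ Spec (CommRingCat.of k)) 0).Fam T)
      (hx : (ModFun.PicDeg (C ↘ Spec (CommRingCat.of k)) 0).ok T x),
      ψ.app T x trivial hx = classify hξ (famCls _ 0 hx) (degCl_famCls _ hdim 0 hx))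
    (hJ : Jac.IsJacobian (C ↘ Spec (CommRingCat.of k)) ⊤ J ψ) :
    ∃ ψK : (ModFun.PicDeg (CK β C ↘ Spec (CommRingCat.of K)) 0).Hom ⊤ (Red.bc β J),
      Jac.IsJacobian (CK β C ↘ Spec (CommRingCat.of K)) ⊤ (Red.bc β J) ψK ∧
      ∀ T x (hx : (ModFun.PicDeg (CK β C ↘ Spec (CommRingCat.of K)) 0).ok T x),
        ψK.app T x trivial hx = classify (univ_K β hdim hdimK hξ) (famCls _ 0 hx) (degCl_famCls _ hdimK 0 hx) := by
  haveI : IsProper (fK β (C ↘ Spec (CommRingCat.of k))) := ‹IsProper (CK β C ↘ Spec (CommRingCat.of K))›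
  haveI : Smooth (fK β (C ↘ Spec (CommRingCat.of k))) := ‹Smooth (CK β C ↘ Spec (CommRingCat.of K))›
  haveI : GeometricallyConnected (fK β (C ↘ Spec (CommRingCat.of k))) := ‹GeometricallyConnected (CK β C ↘ Spec (CommRingCat.of K))›
  haveI : GeometricallyIrreducible (fK β (C ↘ Spec (CommRingCat.of k))) := ‹GeometricallyIrreducible (CK β C ↘ Spec (CommRingCat.of K))›
  let f := CK β C ↘ Spec (CommRingCat.of K)
  have hξK := univ_K β hdim hdimK hξ
  let ψK : (ModFun.PicDeg f 0).Hom ⊤ (Red.bc β J) :=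
    { app := fun T x _ hx => classify hξK (famCls f 0 hx) (degCl_famCls f hdimK 0 hx)
      natural := by
        intro T T' g x _ _ hx hx'
        have h := famCls_pull g hx hx'
        have hd' : ∀ t, PicTan20.degCl f T' t (pc (PicF.XTmap f g) (famCls f 0 hx)).1 = 0 :=
          h ▸ degCl_famCls f hdimK 0 hx'
        rw [← classify_pc hξK g _ (degCl_famCls f hdimK 0 hx) hd']
        congr 1
      resp := by
        intro T x y _ hx hy hr
        obtain ⟨m, hm⟩ := classify_spec hξK _ (degCl_famCls f hdimK 0 hx)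
        obtain ⟨m', hm'⟩ := (r_iff f 0 ((M2.isInvertible_iff_isFinLocFreeOfRank_one x).2 hx.1.2)
          ((M2.isInvertible_iff_isFinLocFreeOfRank_one y).2 hy.1.2)).1 hr
        refine eq_classify hξK _ _ _ (m := m * m') ?_
        change famCls f 0 hy = famCls f 0 hx * pc (PicF.XTproj f T) m' at hm'
        rw [hm', map_mul, ← _root_.mul_assoc, ← hm] }
  obtain ⟨E, hE, hEc⟩ := PicGrp.exists_eq_cls (univBC β (C ↘ Spec (CommRingCat.of k)) ξ)
  have hok : (ModFun.PicDeg f 0).ok (Red.bc β J) E := ok_of_class f hdimK 0 hE fun t => by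
    have := hξK.1 t
    rwa [hEc] at this
  have hba : ModFun.IsBestApprox ⊤ (ModFun.PicDeg f 0) (Red.bc β J) ψK := by
    intro N φ
    have hE1 : ψK.app (Red.bc β J) E trivial hok = 𝟙 (Red.bc β J) := by
      show classify hξK (famCls f 0 hok) (degCl_famCls f hdimK 0 hok) = 𝟙 _
      refine (eq_classify hξK (famCls f 0 hok) (degCl_famCls f hdimK 0 hok) (𝟙 _) (m := 1) ?_).symm
      rw [show famCls f 0 hok = _ from hEc.symm, HilbBC25.XTmap_id, pc_id, map_one, _root_.mul_one]
    refine ⟨φ.app _ E trivial hok, fun T x hT hx => ?_, fun h hh => ?_⟩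
    · let g := classify hξK (famCls f 0 hx) (degCl_famCls f hdimK 0 hx)
      obtain ⟨m, hm⟩ := classify_spec hξK (famCls f 0 hx) (degCl_famCls f hdimK 0 hx)
      have hg := ok_pull hdimK g hok
      show φ.app T x hT hx = g ≫ φ.app _ E trivial hok
      rw [← φ.natural g E trivial hT hok hg]
      refine (φ.resp _ _ hT hg hx ((r_iff f 0 ((M2.isInvertible_iff_isFinLocFreeOfRank_one _).2 hg.1.2)
        ((M2.isInvertible_iff_isFinLocFreeOfRank_one x).2 hx.1.2)).2 ⟨m, ?_⟩)).symm
      show famCls f 0 hx = famCls f 0 hg * _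
      rw [famCls_pull g hok hg, show famCls f 0 hok = _ from hEc.symm]
      exact hm
    · rw [hh _ E trivial hok, hE1, Category.id_comp]
  have hgeo : ModFun.GeomBij (ModFun.PicDeg f 0) (Red.bc β J) ψK := fun Ω _ _ t _ =>
    geomBij_degHom hdimK hξK Ω t (inferInstanceAs (IsAffine (Spec (CommRingCat.of Ω))))
  refine ⟨ψK, ⟨⟨fun _ _ _ _ => trivial, hba, hgeo⟩, fun T hT L M N hL hM hN ⟨e⟩ => ?_⟩, fun T x hx => rfl⟩
  show classify hξK (famCls f 0 hN) (degCl_famCls f hdimK 0 hN) = classify hξK (famCls f 0 hL) (degCl_famCls f hdimK 0 hL) * classify hξK (famCls f 0 hM) (degCl_famCls f hdimK 0 hM)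
  have hd : ∀ (x : (PicF.XT f T).Modules) (hx : (ModFun.PicDeg f 0).ok T x),
      ∀ t, PicTan20.degCl (C ↘ Spec (CommRingCat.of k)) ((Over.map β).obj T) t
        (down β (C ↘ Spec (CommRingCat.of k)) T (famCls f 0 hx)).1 = 0 := fun x hx t => by
    rw [← degCl_up β _ hdim hdimK T t, up_down]
    exact degCl_famCls f hdimK 0 hx t
  refine DiagGL.fl_injective β J ?_
  rw [DiagGL.fl_mul, fl_classify β _ hdim hdimK hξ hξK _ _ (hd L hL),
    fl_classify β _ hdim hdimK hξ hξK _ _ (hd M hM), fl_classify β _ hdim hdimK hξ hξK _ _ (hd N hN),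
    ← classify_mul hdim hξ hψ hJ _ _ (hd L hL) (hd M hM) (deg_mul₀ hdim (hd L hL) (hd M hM))]
  refine classify_congr hξ ?_ _ _
  rw [← map_mul]
  congr 1
  show PicGrp.cls N _ = PicGrp.cls L _ * PicGrp.cls M _
  rw [AlgEquiv22.cls_tensor]
  exact (PicGrp.cls_eq_cls_iff _ _).2 ⟨e⟩

variable [IsAlgClosed K] {ψK : (ModFun.PicDeg (CK β C ↘ Spec (CommRingCat.of K)) 0).Hom ⊤ (Red.bc β J)}
  (hψK : ∀ T x (hx : (ModFun.PicDeg (CK β C ↘ Spec (CommRingCat.of K)) 0).ok T x),
    ψK.app T x trivial hx = classify (univ_K β hdim hdimK hξ) (famCls _ 0 hx) (degCl_famCls _ hdimK 0 hx))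
  (hJK : Jac.IsJacobian (CK β C ↘ Spec (CommRingCat.of K)) ⊤ (Red.bc β J) ψK)

include hψK hJK

/-- The class of a point. -/
theorem iota_eq_pc (z : 𝟙_ (Over (Spec (CommRingCat.of K))) ⟶ Red.bc β J) :
    iota hdimK (Red.bc β J) ψK hJK z = pc (PicF.XTmap (C ↘ Spec (CommRingCat.of k)) (flPt β z)) ξ := by
  haveI : IsProper (fK β (C ↘ Spec (CommRingCat.of k))) := ‹IsProper (CK β C ↘ Spec (CommRingCat.of K))›
  haveI : Smooth (fK β (C ↘ Spec (CommRingCat.of k))) := ‹Smooth (CK β C ↘ Spec (CommRingCat.of K))›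
  haveI : GeometricallyConnected (fK β (C ↘ Spec (CommRingCat.of k))) := ‹GeometricallyConnected (CK β C ↘ Spec (CommRingCat.of K))›
  haveI : GeometricallyIrreducible (fK β (C ↘ Spec (CommRingCat.of k))) := ‹GeometricallyIrreducible (CK β C ↘ Spec (CommRingCat.of K))›
  let f := CK β C ↘ Spec (CommRingCat.of K)
  have hξK := univ_K β hdim hdimK hξ
  obtain ⟨Lξ, hLξ, hLξc⟩ := PicGrp.exists_eq_cls (univBC β (C ↘ Spec (CommRingCat.of k)) ξ)
  let E := (Scheme.Modules.pullback (PicF.XTmap f z)).obj Lξ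
  have hEi : PicF.IsInvertible E := PicLoc.isInvertible_pullback _ hLξ
  have hEc : PicGrp.cls E hEi = pc (PicF.XTmap f z) (univBC β (C ↘ Spec (CommRingCat.of k)) ξ) := by
    rw [hLξc]; exact (PicGrp.pullHom_cls _ _ _ _).symm
  have hd : ∀ t, PicTan20.degCl f (T₀ K) t (pc (PicF.XTmap f z) (univBC β (C ↘ Spec (CommRingCat.of k)) ξ)).1 = 0 := fun t =>
    (PicTan20.degCl_pull _ z t (univBC β (C ↘ Spec (CommRingCat.of k)) ξ).2).trans (hξK.1 _)
  have hok : (ModFun.PicDeg f 0).ok (T₀ K) E := ok_of_class _ hdimK 0 hEi fun t => by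
    rw [← PicGrp.cls_val E hEi, hEc]; exact hd t
  have hi := iota_app hdimK (Red.bc β J) ψK hJK (E := E) hok
  rw [hψK (T₀ K) E hok, classify_congr hξK (show famCls f 0 hok = pc (PicF.XTmap f z) _ from hEc) _ hd,
    classify_univ hξK z] at hi
  rw [hi, cl₀]
  refine (congrArg (pc (rho K (CK β C))) (hEc.trans (pc_univBC β _ z))).trans ?_
  refine Eq.trans ?_ (pc_map_map (C ↘ Spec (CommRingCat.of k)) (unit β) (DiagGL.fl β J z) ξ)
  refine pc_comp _ _ ?_ _
  apply pullback.hom_ext
  · refine ((Category.assoc _ _ _).trans (congrArg (rho K (CK β C) ≫ ·)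
      (bcIso_fst β (Over.mk (C ↘ Spec (CommRingCat.of k))) (T₀ K)))).trans ?_
    refine ((Category.assoc _ _ _).symm.trans ((congrArg (· ≫ pullback.fst (C ↘ Spec (CommRingCat.of k)) β)
      (pullback.lift_fst _ _ _)).trans (Category.id_comp _))).trans ?_
    exact (HilbBC25.XTmap_fst (C ↘ Spec (CommRingCat.of k)) (unit β)).symm
  · refine ((Category.assoc _ _ _).trans (congrArg (rho K (CK β C) ≫ ·)
      (bcIso_snd β (Over.mk (C ↘ Spec (CommRingCat.of k))) (T₀ K)))).trans ?_
    refine (pullback.lift_snd _ _ _).trans (Eq.symm ?_)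
    exact (pullback.lift_snd _ _ _).trans (Category.comp_id _)

theorem flPt_eq_classify (z : 𝟙_ (Over (Spec (CommRingCat.of K))) ⟶ Red.bc β J)
    (c : PicLoc.PicSet (PicF.XT (C ↘ Spec (CommRingCat.of k)) (Over.mk β)))
    (h : iota hdimK (Red.bc β J) ψK hJK z = c) (hc) : flPt β z = classify hξ c hc := by
  rw [iota_eq_pc β hdim hdimK hξ hψK hJK] at h
  exact eq_classify hξ c hc _ (m := 1) (by rw [map_one, _root_.mul_one]; exact h.symm)

end

end Groth.Agent.JacBC22
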