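import Groth.Agent.Lib.JacBC22.Abel
import Groth.Agent.Lib.Riemann22.Locus
import Groth.Agent.Lib.Riemann22.Theta

/-!
# The theta locus over an arbitrary field
-/

set_option autoImplicit false
set_option linter.style.haveILetI false
set_option linter.unusedSectionVars false
set_option backward.isDefEq.respectTransparency false
set_option backward.isDefEq.respectTransparency.types false
set_option maxHeartbeats 1000000

universe u

open CategoryTheory CategoryTheory.Limits AlgebraicGeometry TopologicalSpace Opposite MonoidalCategory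
  CartesianMonoidalCategory MonObj
open scoped CategoryTheory.Obj

noncomputable section

namespace Groth.Agent.JacBC22

open Groth.Agent.Abel10 (pc pc_comp pc_id)
open Groth.Agent.Abel10 Groth.Agent.PicRep20 Groth.Agent.AbDual22 Groth.Agent.JacPts22 Groth.Agent.Torelli22

noncomputable local instance instLawJacBCTheta (Y : Scheme.{u}) : PicGrp.Law Y := M2.law Y

variable {k : Type u} [Field k] {C : Scheme.{u}} [C.Over (Spec (CommRingCat.of k))]
  [IsProper (C ↘ Spec (CommRingCat.of k))] [Smooth (C ↘ Spec (CommRingCat.of k))]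
  [GeometricallyConnected (C ↘ Spec (CommRingCat.of k))] [IsIntegral C]
  [GeometricallyIrreducible (C ↘ Spec (CommRingCat.of k))] (hdim : topologicalKrullDim C = 1)

include hdim in
theorem degCl_fst {L : C.Modules} (hL : PicF.IsInvertible L) (t : (T₀ k).left) :
    PicTan20.degCl (C ↘ Spec (CommRingCat.of k)) (T₀ k) t
      (pc (pullback.fst (C ↘ Spec (CommRingCat.of k)) (T₀ k).hom) (PicGrp.cls L hL)).1 = Curv2.deg k C L 1 := by
  rw [pc, PicGrp.pullHom_cls, PicGrp.cls_val]
  let f := C ↘ Spec (CommRingCat.of k)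
  let T := T₀ k
  let p := PicF.XTproj f T
  let Ω := T.left.residueField t
  let τ := T.left.fromSpecResidueField t
  letI : (p.fiber t).Over (Spec (CommRingCat.of Ω)) := ⟨p.fiberToSpecResidueField t⟩
  have sq : IsPullback (p.fiberι t) (p.fiber t ↘ Spec (CommRingCat.of Ω)) p τ := IsPullback.of_hasPullback _ _
  have sq' := sq.paste_horiz (IsPullback.of_hasPullback f T.hom)
  haveI : IsProper p := MorphismProperty.pullback_snd (P := @IsProper) _ _ inferInstance
  haveI : IsProper (p.fiber t ↘ Spec (CommRingCat.of Ω)) := Abel10.isProper_fieldPt sq'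
  have h1 := Abel10.deg_fieldPt sq' hL
  have hid : IsPullback (𝟙 C) (C ↘ Spec (CommRingCat.of k)) f (𝟙 _) :=
    IsPullback.of_horiz_isIso ⟨by rw [Category.id_comp, Category.comp_id]⟩
  have h2 := Abel10.deg_fieldPt (K := k) hid hL
  rw [CurveCoh17.deg_iso ((Scheme.Modules.pullbackId C).app L), Functor.id_obj] at h2
  refine (deg_fibre f hdim T t (PicLoc.isInvertible_pullback _ hL)).symm.trans ?_
  refine (CurveCoh17.deg_iso (k := Ω) ((Scheme.Modules.pullbackComp (p.fiberι t) (pullback.fst f T.hom)).app L)).trans ?_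
  refine h1.trans (Eq.trans ?_ h2.symm)
  haveI : Subsingleton (Spec (CommRingCat.of k)) := inferInstanceAs (Subsingleton (PrimeSpectrum k))
  generalize hs : (τ ≫ T.hom) (IsLocalRing.closedPoint Ω) = s₁
  generalize hs' : (𝟙 (Spec (CommRingCat.of k)) : Spec (CommRingCat.of k) ⟶ _) (IsLocalRing.closedPoint k) = s₂
  obtain rfl : s₁ = s₂ := Subsingleton.elim _ _
  rfl

variable {K : Type u} [Field K] [IsAlgClosed K] (β : Spec (CommRingCat.of K) ⟶ Spec (CommRingCat.of k))

/-- A divisor class of the curve read on the curve over the larger field. -/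
abbrev extCls : PicLoc.PicSet C →* PicLoc.PicSet (CK β C) :=
  pc (pullback.fst (C ↘ Spec (CommRingCat.of k)) β)

/-- The base as a point. -/
abbrev toBase : Over.mk β ⟶ 𝟙_ (Over (Spec (CommRingCat.of k))) := Over.homMk β (Category.comp_id _)

theorem pc_toBase (c : PicLoc.PicSet C) :
    pc (PicF.XTmap (C ↘ Spec (CommRingCat.of k)) (toBase β)) (pc (pullback.fst (C ↘ Spec (CommRingCat.of k)) (T₀ k).hom) c) =
      extCls β c :=
  pc_comp _ _ (HilbBC25.XTmap_fst (C ↘ Spec (CommRingCat.of k)) (toBase β)) c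

variable {J : Over (Spec (CommRingCat.of k))} [GrpObj J] [IsCommMonObj J]
  {ψ : (ModFun.PicDeg (C ↘ Spec (CommRingCat.of k)) 0).Hom ⊤ J}
  (hJ : Jac.IsJacobian (C ↘ Spec (CommRingCat.of k)) ⊤ J ψ)
  {σ : Spec (CommRingCat.of k) ⟶ C} (hσ : σ ≫ (C ↘ Spec (CommRingCat.of k)) = 𝟙 _)
  {j : Over.mk (C ↘ Spec (CommRingCat.of k)) ⟶ J} (hj : Jac.IsAbelJacobiAt (C ↘ Spec (CommRingCat.of k)) σ ψ j)

include hdim hσ hj in
/-- The class of the base point over the larger field. -/
theorem extCls_pt :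
    haveI := (setup β hdim).1
    haveI := (setup β hdim).2.1
    haveI := (setup β hdim).2.2.1
    haveI := (setup β hdim).2.2.2.1
    ∀ (σK : Spec (CommRingCat.of K) ⟶ CK β C) (hσK : σK ≫ (CK β C ↘ Spec (CommRingCat.of K)) = 𝟙 _),
      σK ≫ pullback.fst (C ↘ Spec (CommRingCat.of k)) β = β ≫ σ →
      extCls β (ptCls hdim σ hσ) = Torelli22.P (setup β hdim).2.2.2.2.2.1 ⟨σK, hσK⟩ := by
  intro σK hσK hfst
  obtain ⟨hP, L, hL, hAJ, hLj⟩ := hj
  let y : Over.mk β ⟶ Over.mk (C ↘ Spec (CommRingCat.of k)) :=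
    toBase β ≫ (Over.homMk σ hσ : 𝟙_ (Over (Spec (CommRingCat.of k))) ⟶ Over.mk (C ↘ Spec (CommRingCat.of k)))
  have k1 := pc_ajFamily hdim β σ hAJ hσ y ⟨σK, hσK⟩ hfst
  have h1 : pc (PicF.XTmap (C ↘ Spec (CommRingCat.of k)) y) (PicGrp.cls L hAJ.1) = 1 := by
    rw [← pc_map_map (C ↘ Spec (CommRingCat.of k)) (toBase β) _, pc_base_aj hdim σ hσ hAJ, map_one]
  rw [h1, _root_.one_mul] at k1
  exact k1.symm

include hdim hσ hJ hj

set_option maxHeartbeats 2000000 in
/-- Over any field the theta locus is a translate of the image of the sum map. -/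
theorem thetaLocus_eq_range {n : ℕ} (hn : Curv2.genus k C = n + 1) {N : C.Modules} (hN : PicF.IsInvertible N)
    (hNdeg : Curv2.deg k C N 1 = n) :
    ∃ a : 𝟙_ (Over (Spec (CommRingCat.of k))) ⟶ J,
      Jac.thetaLocus (C ↘ Spec (CommRingCat.of k)) 0 ψ N = Set.range (trMap j n a⁻¹).left.base := by
  obtain ⟨hJp, -, -, ξ, hξ, hψ⟩ := exists_fine _ hdim σ hσ J ψ hJ.coarse.2.1
  haveI := hJp
  let pC := C ↘ Spec (CommRingCat.of k)
  let c₁ := PicGrp.cls N hN * ptCls hdim σ hσ ^ n
  have hfd := fiber_dim pC hdim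
  have hpow : ∀ (m : ℕ) (t), PicTan20.degCl pC (T₀ k) t
      (pc (pullback.fst pC (T₀ k).hom) (ptCls hdim σ hσ) ^ m).1 = -(m : ℤ) := fun m t => by
    induction m with
    | zero => rw [pow_zero]; exact (deg_one₀ hdim t).trans (by simp)
    | succ m ih =>
      rw [pow_succ, PicTan20.degCl_mul _ hfd, ih,
        show ptCls hdim σ hσ = PicGrp.cls _ (isInvertible_point hdim σ hσ) from rfl,
        degCl_fst hdim (isInvertible_point hdim σ hσ), deg_point hdim σ hσ]
      push_cast
      ring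
  have hc₁ : ∀ t, PicTan20.degCl pC (T₀ k) t (pc (pullback.fst pC (T₀ k).hom) c₁).1 = 0 := fun t => by
    rw [map_mul, map_pow, PicTan20.degCl_mul _ hfd, hpow, degCl_fst hdim hN, hNdeg]
    ring
  let a : 𝟙_ (Over (Spec (CommRingCat.of k))) ⟶ J := classify hξ _ hc₁
  refine ⟨a, ?_⟩
  -- the jump locus at a geometric point
  have main : ∀ (Ω : Type u) [Field Ω] [IsAlgClosed Ω] (t : Spec (CommRingCat.of Ω) ⟶ Spec (CommRingCat.of k))
      (L : (PicF.XT pC (Over.mk t)).Modules) (hL : (ModFun.PicDeg pC 0).ok (Over.mk t) L),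
      (¬ Subsingleton (Coh.HH (PicF.XT pC (Over.mk t)) (CohB1.tensorMod L ((Scheme.Modules.pullback (pullback.fst pC t)).obj N)) 0)) ↔
        ∃ y : Over.mk t ⟶ pw k C n, y ≫ trMap j n a⁻¹ = ψ.app (Over.mk t) L trivial hL := by
    intro Ω _ _ t L hL
    letI : (PicF.XT pC (Over.mk t)).Over (Spec (CommRingCat.of Ω)) := ⟨PicF.XTproj _ _⟩
    obtain ⟨h1, h2, h3, h4, h5, hdimK, -⟩ := setup t hdim
    haveI := h1; haveI := h2; haveI := h3; haveI := h4; haveI := h5
    obtain ⟨ψK, hJK, hψK⟩ := exists_jacobian_bc t hdim hdimK hξ hψ hJ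
    obtain ⟨σK, hσK, jK, hfst, hjK, hflj⟩ := exists_abel_bc t hdim hdimK hξ hψ hψK hJK hσ hj
    haveI : IsSeparated (Red.bc t J).hom := inferInstanceAs (IsSeparated (pullback.snd J.hom t))
    let b := ψ.app (Over.mk t) L trivial hL
    obtain ⟨z, hz⟩ : ∃ z, flPt t z = b := by
      obtain ⟨z, hz⟩ := DiagGL.fl_surjective t J ((Over.homMk (𝟙 _) (by simp) : (Over.map t).obj (T₀ Ω) ⟶ Over.mk t) ≫ b)
      refine ⟨z, ?_⟩
      show unit t ≫ DiagGL.fl t J z = b
      rw [hz]
      exact (Category.assoc _ _ _).symm.trans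
        ((congrArg (· ≫ b) (Over.OverMorphism.ext (Category.id_comp _) : _ = 𝟙 (Over.mk t))).trans (Category.id_comp b))
    obtain ⟨zA, hzA⟩ : ∃ zA, flPt t zA = toBase t ≫ a := by
      obtain ⟨z, hz⟩ := DiagGL.fl_surjective t J ((Over.homMk (𝟙 _) (by simp) : (Over.map t).obj (T₀ Ω) ⟶ Over.mk t) ≫ toBase t ≫ a)
      refine ⟨z, ?_⟩
      show unit t ≫ DiagGL.fl t J z = _
      rw [hz]
      exact (Category.assoc _ _ _).symm.trans
        ((congrArg (· ≫ toBase t ≫ a) (Over.OverMorphism.ext (Category.id_comp _) : _ = 𝟙 (Over.mk t))).trans (Category.id_comp _))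
    have hsub : ∀ m : PicLoc.PicSet (Over.mk t).left, m = 1 := fun m => by
      obtain ⟨M, hM, rfl⟩ := PicGrp.exists_eq_cls m
      exact (PicGrp.cls_eq_one_iff _).2 (CubeField.nonempty_trivial_field _ hM)
    have ez : iota hdimK (Red.bc t J) ψK hJK z = famCls pC 0 hL := by
      rw [iota_eq_pc t hdim hdimK hξ hψK hJK, hz]
      obtain ⟨m, hm⟩ := classify_spec hξ (famCls pC 0 hL) (degCl_famCls pC hdim 0 hL)
      rw [← hψ _ L hL, hsub m, map_one, _root_.mul_one] at hm
      exact hm.symm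
    have eA : iota hdimK (Red.bc t J) ψK hJK zA =
        extCls t (PicGrp.cls N hN) * P hdimK ⟨σK, hσK⟩ ^ n := by
      rw [iota_eq_pc t hdim hdimK hξ hψK hJK, hzA, ← pc_map_map]
      obtain ⟨m, hm⟩ := classify_spec hξ _ hc₁
      have hm1 : m = 1 := by
        obtain ⟨M, hM, rfl⟩ := PicGrp.exists_eq_cls m
        exact (PicGrp.cls_eq_one_iff _).2 (CubeField.nonempty_trivial_field _ hM)
      rw [hm1, map_one, _root_.mul_one] at hm
      show pc _ (pc (PicF.XTmap pC (classify hξ _ hc₁)) ξ) = _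
      rw [← hm]
      refine (pc_toBase t c₁).trans ?_
      rw [map_mul, map_pow, extCls_pt hdim t hσ hj σK hσK hfst]
    have hLi : PicF.IsInvertible L := (M2.isInvertible_iff_isFinLocFreeOfRank_one L).2 hL.1.2
    have hNt := PicLoc.isInvertible_pullback (pullback.fst pC t) hN
    have hTi := M2.isInvertible_tensor hLi hNt
    have e : cN hdimK σK hσK ψK hJK n (z * zA) =
        PicGrp.cls (Y := CK t C) (CohB1.tensorMod L ((Scheme.Modules.pullback (pullback.fst pC t)).obj N)) hTi := by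
      rw [cN, map_mul, ez, eA, ← _root_.mul_assoc, mul_inv_cancel_right, ← AlgEquiv22.cls_tensor hLi hNt]
      exact congrArg₂ (· * ·) rfl (PicGrp.pullHom_cls _ _ _ _)
    haveI : IsProper (PicF.XT pC (Over.mk t) ↘ Spec (CommRingCat.of Ω)) := h1
    haveI : Module.Finite Ω (Coh.HH (CK t C) (CohB1.tensorMod L ((Scheme.Modules.pullback (pullback.fst pC t)).obj N)) 0) :=
      CohFound.finite_HH_of_isProper (A := Ω) _ (CubeField.isCoh_of_isInvertible hTi) 0
    have hd := degC_cN hdimK σK hσK ψK hJK n (z * zA)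
    have hpos : (¬ Subsingleton (Coh.HH (CK t C) (CohB1.tensorMod L ((Scheme.Modules.pullback (pullback.fst pC t)).obj N)) 0)) ↔
        0 < h0C Ω (cN hdimK σK hσK ψK hJK n (z * zA)) := by
      rw [e, h0C_cls (C := CK t C) hTi, Nat.pos_iff_ne_zero]
      exact not_congr (Module.finrank_zero_iff (R := Ω)).symm
    let Φ : (𝟙_ (Over (Spec (CommRingCat.of Ω))) ⟶ Red.bc t J) →* (Over.mk t ⟶ J) :=
      MonoidHom.mk' (flPt t) (flPt_mul t)
    have hsum : ∀ (x : 𝟙_ (Over (Spec (CommRingCat.of Ω))) ⟶ pw Ω (CK t C) n) (y : Over.mk t ⟶ pw k C n),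
        (∀ i, y ≫ prj i = flC t (x ≫ prj i)) → Φ (x ≫ sumMap jK n) = y ≫ sumMap j n := fun x y hxy => by
      rw [Riemann22.comp_sumMap, Riemann22.comp_sumMap, map_prod]
      exact Finset.prod_congr rfl fun i _ => by rw [hxy]; exact hflj _
    have hzz : Φ (z * zA) = b * (toUnit (Over.mk t) ≫ a) := by
      rw [map_mul]
      exact congrArg₂ (· * ·) hz (hzA.trans (congrArg (· ≫ a) (toUnit_unique _ _)))
    refine hpos.trans ⟨fun h => ?_, fun ⟨y, hy⟩ => ?_⟩
    · obtain ⟨x, hx⟩ := exists_sum hdimK σK hσK ψK hJK jK hjK (eff_of_h0_pos hdimK n _ hd h)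
      let y : Over.mk t ⟶ pw k C n := Over.homMk
        (WidePullback.lift t (fun i => (flC t (x ≫ prj i)).left) fun i => Over.w (flC t (x ≫ prj i)))
        (WidePullback.lift_base _ _ _ _)
      refine ⟨y, ?_⟩
      have h1 := hsum x y fun i => Over.OverMorphism.ext (WidePullback.lift_π _ _ _ _ i)
      rw [hx, hzz] at h1
      rw [← Category.assoc, comp_transl, ← h1, GrpObj.comp_inv, mul_inv_cancel_right]
    · choose xc hxc using fun i => flC_surjective t (y ≫ prj i)
      have hx : mkPt (fun i => (⟨(xc i).left, Over.w (xc i)⟩ : Torelli22.Pts Ω (CK t C))) ≫ sumMap jK n = z * zA := by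
        refine flPt_injective t ?_
        show Φ _ = Φ _
        rw [hsum _ y fun i => by rw [Riemann22.mkPt_prj xc i, hxc i], hzz]
        rw [← Category.assoc, comp_transl, GrpObj.comp_inv] at hy
        exact mul_inv_eq_iff_eq_mul.1 hy
      rw [← hx]
      exact (eff_sum hdimK σK hσK ψK hJK jK hjK _).h0_pos hdimK ⟨σK, hσK⟩
  haveI : IsSeparated J.hom := AbRigid.isSeparated_of_grpObj J
  show closure _ = _
  refine Set.Subset.antisymm (closure_minimal ?_ (JacPts22.isClosed_range _)) ?_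
  · rintro _ ⟨Ω, _, _, t, _, L, hL, hQ, p, rfl⟩
    obtain ⟨y, hy⟩ := (main Ω t L hL).1 hQ
    rw [← hy]
    exact ⟨y.left.base p, rfl⟩
  · rintro _ ⟨q, rfl⟩
    refine subset_closure ?_
    let Ω := AlgebraicClosure ((pw k C n).left.residueField q)
    let t₀ : Spec (CommRingCat.of Ω) ⟶ (pw k C n).left :=
      Spec.map (CommRingCat.ofHom (algebraMap ((pw k C n).left.residueField q) Ω)) ≫ (pw k C n).left.fromSpecResidueField q
    have ht₀ : ∀ w, t₀ w = q := fun w => by
      rw [show t₀ w = ((pw k C n).left.fromSpecResidueField q)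
        ((Spec.map (CommRingCat.ofHom (algebraMap ((pw k C n).left.residueField q) Ω))) w) from Scheme.Hom.comp_apply _ _ _]
      exact Scheme.fromSpecResidueField_apply q _
    let y : Over.mk (t₀ ≫ (pw k C n).hom) ⟶ pw k C n := Over.homMk t₀ rfl
    let b := y ≫ trMap j n a⁻¹
    obtain ⟨E, hE, hEc⟩ := PicGrp.exists_eq_cls (pc (PicF.XTmap pC b) ξ)
    have hd : ∀ w, PicTan20.degCl pC _ w (pc (PicF.XTmap pC b) ξ).1 = 0 := fun w =>
      (PicTan20.degCl_pull _ b w ξ.2).trans (hξ.1 _)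
    have hok : (ModFun.PicDeg pC 0).ok (Over.mk (t₀ ≫ (pw k C n).hom)) E := ok_of_class _ hdim 0 hE fun w => by
      rw [← PicGrp.cls_val E hE, ← hEc]; exact hd w
    have happ : ψ.app _ E trivial hok = b := by
      rw [hψ _ E hok, classify_congr hξ (show famCls pC 0 hok = pc (PicF.XTmap pC b) ξ from hEc.symm) _ hd,
        classify_univ hξ b]
    refine ⟨Ω, inferInstance, inferInstance, t₀ ≫ (pw k C n).hom, trivial, E, hok,
      (main Ω _ E hok).2 ⟨y, happ.symm⟩, IsLocalRing.closedPoint Ω, ?_⟩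
    show (ψ.app _ E trivial hok).left.base _ = _
    rw [happ]
    exact congrArg (trMap j n a⁻¹).left.base (ht₀ _)

end Groth.Agent.JacBC22
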