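import Groth.Agent.Lib.JacBC22.Geom
import Groth.Agent.Lib.Riemann22.Poincare
import Groth.Agent.Lib.Riemann22.Principal
import Groth.Agent.Lib.CubeField.AmpleDescent
import Groth.Agent.Lib.SecDiv18.Basic

/-!
# The theta class after an extension to an algebraic closure
-/

set_option autoImplicit false
set_option linter.style.haveILetI false
set_option linter.unusedSectionVars false
set_option backward.isDefEq.respectTransparency false
set_option backward.isDefEq.respectTransparency.types false
set_option maxHeartbeats 1000000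
set_option synthInstance.maxHeartbeats 200000

universe u

open CategoryTheory CategoryTheory.Limits AlgebraicGeometry TopologicalSpace Opposite MonoidalCategory
  CartesianMonoidalCategory MonObj
open scoped CategoryTheory.Obj

noncomputable section

namespace Groth.Agent.JacBC22

open Groth.Agent.Abel10 (pc pc_comp pc_id)
open Groth.Agent.Abel10 Groth.Agent.PicRep20 Groth.Agent.JacPts22 Groth.Agent.Riemann22

noncomputable local instance instLawJacBCThetaClass (Y : Scheme.{u}) : PicGrp.Law Y := M2.law Y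

theorem translate_aux {G : Type*} [CommGroup G] (x y A B D : G) :
    x * (y * B) * (A * D) * (x * D * (y * B))⁻¹ = A := by
  rw [mul_inv_eq_iff_eq_mul]
  simp only [_root_.mul_comm, _root_.mul_left_comm, _root_.mul_assoc]

variable {k : Type u} [Field k] {C : Scheme.{u}} [C.Over (Spec (CommRingCat.of k))]
  [IsProper (C ↘ Spec (CommRingCat.of k))] [Smooth (C ↘ Spec (CommRingCat.of k))]
  [GeometricallyConnected (C ↘ Spec (CommRingCat.of k))] [IsIntegral C]
  [GeometricallyIrreducible (C ↘ Spec (CommRingCat.of k))] (hdim : topologicalKrullDim C = 1)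
  {J : Over (Spec (CommRingCat.of k))} [GrpObj J] [IsCommMonObj J]
  {ψ : (ModFun.PicDeg (C ↘ Spec (CommRingCat.of k)) 0).Hom ⊤ J}
  (hJ : Jac.IsJacobian (C ↘ Spec (CommRingCat.of k)) ⊤ J ψ)
  {σ : Spec (CommRingCat.of k) ⟶ C} (hσ : σ ≫ (C ↘ Spec (CommRingCat.of k)) = 𝟙 _)
  {j : Over.mk (C ↘ Spec (CommRingCat.of k)) ⟶ J} (hj : Jac.IsAbelJacobiAt (C ↘ Spec (CommRingCat.of k)) σ ψ j)
  [IsProper (CK (βa k) C ↘ Spec (CommRingCat.of (AlgebraicClosure k)))]
  [Smooth (CK (βa k) C ↘ Spec (CommRingCat.of (AlgebraicClosure k)))]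
  [GeometricallyConnected (CK (βa k) C ↘ Spec (CommRingCat.of (AlgebraicClosure k)))] [IsIntegral (CK (βa k) C)]
  [GeometricallyIrreducible (CK (βa k) C ↘ Spec (CommRingCat.of (AlgebraicClosure k)))]
  (hdimK : topologicalKrullDim (CK (βa k) C) = 1)
  {ψK : (ModFun.PicDeg (CK (βa k) C ↘ Spec (CommRingCat.of (AlgebraicClosure k))) 0).Hom ⊤ (Red.bc (βa k) J)}
  (hJK : Jac.IsJacobian (CK (βa k) C ↘ Spec (CommRingCat.of (AlgebraicClosure k))) ⊤ (Red.bc (βa k) J) ψK)
  {σK : Spec (CommRingCat.of (AlgebraicClosure k)) ⟶ CK (βa k) C}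
  (hσK : σK ≫ (CK (βa k) C ↘ Spec (CommRingCat.of (AlgebraicClosure k))) = 𝟙 _)
  {jK : Over.mk (CK (βa k) C ↘ Spec (CommRingCat.of (AlgebraicClosure k))) ⟶ Red.bc (βa k) J}
  (hjK : Jac.IsAbelJacobiAt (CK (βa k) C ↘ Spec (CommRingCat.of (AlgebraicClosure k))) σK ψK jK)
  (hflj : ∀ x, flPt (βa k) (x ≫ jK) = flC (βa k) x ≫ j)

include hdim hJ hσ hj hdimK hJK hσK hjK hflj

set_option maxHeartbeats 2000000 in
/-- The class and the ampleness of the pulled back theta module. -/
theorem theta_bc {n : ℕ} (hn : Curv2.genus k C = n + 1)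
    (hnK : Curv2.genus (AlgebraicClosure k) (CK (βa k) C) = n + 1) {N : C.Modules} (hN : PicF.IsInvertible N)
    (hNdeg : Curv2.deg k C N 1 = n) {ΘJ : J.left.Modules}
    (hΘJ : Jac.IsThetaLB (C ↘ Spec (CommRingCat.of k)) 0 ψ N ΘJ) :
    CohB1.IsAmple ΘJ ∧ ∀ z : 𝟙_ (Over (Spec (CommRingCat.of (AlgebraicClosure k)))) ⟶ Red.bc (βa k) J,
      (show PicLoc.PicSet (CK (βa k) C) from Index22.bil
        (pc (Y' := (Red.bc (βa k) J).left) (pullback.fst J.hom (βa k)) (PicGrp.cls ΘJ hΘJ.1)) jK (toUnit _ ≫ z)) =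
        (iota hdimK (Red.bc (βa k) J) ψK hJK z)⁻¹ := by
  classical
  let K := AlgebraicClosure k
  let β := βa k
  let pK := CK β C ↘ Spec (CommRingCat.of K)
  obtain ⟨hJp, -, -⟩ := jacobian_props hdim σ hσ hJ
  haveI := hJp
  haveI : IsSeparated J.hom := AbRigid.isSeparated_of_grpObj J
  obtain ⟨hJKp, -, hJKg⟩ := jacobian_props hdimK σK hσK hJK
  haveI := hJKp
  haveI := hJKg
  haveI : IsSeparated (Red.bc β J).hom := AbRigid.isSeparated_of_grpObj _
  obtain ⟨a, ha⟩ := thetaLocus_eq_range hdim hJ hσ hj hn hN hNdeg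
  haveI : IsProper (pw k C n).hom := inferInstance
  haveI : GeometricallyIntegral (pw k C n).hom := geometricallyIntegral_pw n
  haveI : IsReduced (pw k C n).left := by
    haveI : IsIntegral (pw k C n).left := GeometricallyIntegral.isIntegral_of_subsingleton (pw k C n).hom
    infer_instance
  haveI : GeometricallyIntegral (pullback.snd (pw k C n).hom β) := MorphismProperty.pullback_snd _ _ inferInstance
  haveI : IsReduced (Red.bc β (pw k C n)).left := by
    haveI : IsIntegral (pullback (pw k C n).hom β) :=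
      GeometricallyIntegral.isIntegral_of_subsingleton (pullback.snd (pw k C n).hom β)
    exact (inferInstance : IsReduced (pullback (pw k C n).hom β))
  let F := trMap j n a⁻¹
  let vI := Scheme.IdealSheafData.vanishingIdeal
    (⟨Jac.thetaLocus (C ↘ Spec (CommRingCat.of k)) 0 ψ N, isClosed_closure⟩ : Closeds J.left)
  haveI : IsProper (F.left ≫ J.hom) := by rw [Over.w F]; infer_instance
  haveI : IsProper F.left := IsProper.of_comp F.left J.hom
  have hvF : vI = F.left.ker := by
    rw [SchImage.ker_eq_vanishingIdeal]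
    refine congrArg Scheme.IdealSheafData.vanishingIdeal (Closeds.ext ?_)
    show Jac.thetaLocus (C ↘ Spec (CommRingCat.of k)) 0 ψ N = closure (Set.range F.left.base)
    rw [ha, (JacPts22.isClosed_range F).closure_eq]
  let FK := (Over.pullback β).map F
  haveI : IsProper FK.left := MorphismProperty.of_isPullback (P := @IsProper) (isPullback_map β F) inferInstance
  have hcomap : vI.comap (pullback.fst J.hom β) = FK.left.ker := by
    rw [hvF]
    exact SchImage14.ker_comap_of_flat (isPullback_map β F)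
  let Zp : Closeds (Red.bc β J).left :=
    (⟨Jac.thetaLocus (C ↘ Spec (CommRingCat.of k)) 0 ψ N, isClosed_closure⟩ : Closeds J.left).preimage
      (pullback.fst J.hom β).continuous
  have hsupp : vI.support = ⟨Jac.thetaLocus (C ↘ Spec (CommRingCat.of k)) 0 ψ N, isClosed_closure⟩ :=
    rfl
  have hvK : vI.comap (pullback.fst J.hom β) = Scheme.IdealSheafData.vanishingIdeal Zp := by
    have h := congrArg Scheme.IdealSheafData.support hcomap
    rw [Scheme.IdealSheafData.support_comap, hsupp] at h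
    rw [hcomap, SchImage.ker_eq_vanishingIdeal]
    refine congrArg Scheme.IdealSheafData.vanishingIdeal ?_
    refine Eq.trans ?_ h.symm
    refine Closeds.ext ?_
    rw [Scheme.Hom.support_ker]
    rfl
  -- the points of the preimage
  obtain ⟨zA, hzA⟩ := flPt_surjective β (toUnit (Over.mk β) ≫ a)
  have hcl : IsClosed (Set.range (sumMap jK n).left.base) := JacPts22.isClosed_range (sumMap jK n)
  let Φ : (𝟙_ (Over (Spec (CommRingCat.of K))) ⟶ Red.bc β J) →* (Over.mk β ⟶ J) :=
    MonoidHom.mk' (flPt β) (flPt_mul β)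
  have hsum : ∀ (x : 𝟙_ (Over (Spec (CommRingCat.of K))) ⟶ pw K (CK β C) n) (y : Over.mk β ⟶ pw k C n),
      (∀ i, y ≫ prj i = flC β (x ≫ prj i)) → Φ (x ≫ sumMap jK n) = y ≫ sumMap j n := fun x y hxy => by
    rw [Riemann22.comp_sumMap, Riemann22.comp_sumMap, map_prod]
    exact Finset.prod_congr rfl fun i _ => by rw [hxy]; exact hflj _
  have hpts : ∀ z : 𝟙_ (Over (Spec (CommRingCat.of K))) ⟶ Red.bc β J,
      CurvePts22.pt z.left ∈ (Zp : Set (Red.bc β J).left) ↔
        CurvePts22.pt z.left ∈ (Jac.transl (Red.bc β J) zA).left.base ⁻¹' Set.range (sumMap jK n).left.base := by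
    intro z
    rw [Set.mem_preimage, show (Jac.transl (Red.bc β J) zA).left.base (CurvePts22.pt z.left) =
      CurvePts22.pt (z * zA).left by rw [← point_comp_transl]; rfl, pt_mem_range_iff]
    have hcl' : (flPt β z).left (IsLocalRing.closedPoint K) = (pullback.fst J.hom β) (CurvePts22.pt z.left) := rfl
    show (pullback.fst J.hom β) (CurvePts22.pt z.left) ∈ Jac.thetaLocus (C ↘ Spec (CommRingCat.of k)) 0 ψ N ↔ _
    rw [← hcl', ha]
    constructor
    · intro h
      obtain ⟨y, hy⟩ := exists_lift_pt (trMap j n a⁻¹) (flPt β z) h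
      rw [← Category.assoc, comp_transl, GrpObj.comp_inv, mul_inv_eq_iff_eq_mul, ← hzA, ← flPt_mul] at hy
      choose xc hxc using fun i => flC_surjective β (y ≫ prj i)
      refine ⟨mkPt (fun i => (⟨(xc i).left, Over.w (xc i)⟩ : Torelli22.Pts K (CK β C))), flPt_injective β ?_⟩
      show Φ _ = Φ _
      rw [hsum _ y fun i => by rw [Riemann22.mkPt_prj xc i, hxc i]]
      exact hy
    · rintro ⟨x, hx⟩
      let y : Over.mk β ⟶ pw k C n := Over.homMk
        (WidePullback.lift β (fun i => (flC β (x ≫ prj i)).left) fun i => Over.w (flC β (x ≫ prj i)))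
        (WidePullback.lift_base _ _ _ _)
      have h1 := hsum x y fun i => Over.OverMorphism.ext (WidePullback.lift_π _ _ _ _ i)
      rw [hx] at h1
      have h2 : y ≫ trMap j n a⁻¹ = flPt β z := by
        rw [← Category.assoc, comp_transl, GrpObj.comp_inv, mul_inv_eq_iff_eq_mul, ← hzA, ← flPt_mul]
        exact h1.symm
      rw [← h2]
      exact ⟨y.left.base (IsLocalRing.closedPoint K), rfl⟩
  let t := Jac.transl (Red.bc β J) zA
  haveI : IsIso t.left := Riemann22.isIso_transl zA
  have hZ : (Zp : Set (Red.bc β J).left) = t.left.base ⁻¹' Set.range (sumMap jK n).left.base := by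
    refine Set.Subset.antisymm (fun y hy => ?_) (fun y hy => ?_)
    · by_contra h
      obtain ⟨b, hb1, hb2⟩ := exists_point_mem (P := Red.bc β J)
        (Zp.isClosed.isLocallyClosed.inter (hcl.preimage t.left.continuous).isOpen_compl.isLocallyClosed) ⟨y, hy, h⟩
      exact hb2 ((hpts b).1 hb1)
    · by_contra h
      obtain ⟨b, hb1, hb2⟩ := exists_point_mem (P := Red.bc β J)
        ((hcl.preimage t.left.continuous).isLocallyClosed.inter Zp.isClosed.isOpen_compl.isLocallyClosed) ⟨y, hy, h⟩
      exact hb2 ((hpts b).2 hb1)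
  have hE := isEffCartierIdeal_theta hdimK hσK hJK jK hjK hnK hcl
  set c₀ := PicGrp.cls _ (M2.isInvertible_idealMod _ hE) with hc₀
  have hE' : BlowUp.IsEffCartierIdeal
      ((Scheme.IdealSheafData.vanishingIdeal ⟨_, hcl⟩).comap t.left) := BlowUp26.isEffCartierIdeal_comap_flat hE t.left
  have hv : vI.comap (pullback.fst J.hom β) = (Scheme.IdealSheafData.vanishingIdeal ⟨_, hcl⟩).comap t.left := by
    rw [hvK]
    exact (congrArg Scheme.IdealSheafData.vanishingIdeal (TopologicalSpace.Closeds.ext hZ)).trans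
      (NodeBlow14.comap_vanishingIdeal t.left ⟨_, hcl⟩).symm
  haveI : Flat (pullback.fst J.hom β) := MorphismProperty.pullback_fst (P := @Flat) _ _ inferInstance
  have hvinv : BlowUp.IsEffCartierIdeal vI :=
    SecDiv.isEffCartierIdeal_of_isInvertible vI (by
      obtain ⟨e⟩ := hΘJ.2
      obtain ⟨D, hD, ⟨eD⟩⟩ := M2.exists_inverse hΘJ.1
      exact M2.isInvertible_of_iso (M2.inverseUnique eD e) hD)
  have hE'' : BlowUp.IsEffCartierIdeal (vI.comap (pullback.fst J.hom β)) := by rw [hv]; exact hE'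
  have hΘc : pc (Y' := (Red.bc β J).left) (pullback.fst J.hom β) (PicGrp.cls ΘJ hΘJ.1) = (AlgEquiv22.pb t c₀)⁻¹ := by
    refine eq_inv_of_mul_eq_one_left ?_
    have e : AlgEquiv22.pb t c₀ = pc (Y' := (Red.bc β J).left) (pullback.fst J.hom β) (PicGrp.cls _ (M2.isInvertible_idealMod _ hvinv)) :=
      ((cls_comap t.left hE hE').trans (cls_congr hv hE'' hE').symm).trans (cls_comap (pullback.fst J.hom β) hvinv hE'').symm
    rw [e, ← map_mul, (PicGrp.cls_mul_cls_eq_one_iff hΘJ.1 _).2 hΘJ.2, map_one]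
  refine ⟨?_, fun z => ?_⟩
  · obtain ⟨L, hL, hLc⟩ := PicGrp.exists_eq_cls c₀⁻¹
    have hh0 := finrank_theta_eq_one hdimK hσK hJK jK hjK hnK hcl hE hL hLc.symm
    haveI : IsIntegral (Red.bc β J).left := GeometricallyIntegral.isIntegral_of_subsingleton (Red.bc β J).hom
    letI : (Red.bc β J).left.Over (Spec (CommRingCat.of K)) := ⟨(Red.bc β J).hom⟩
    haveI : Nontrivial (Coh.HH (Red.bc β J).left L 0) := by
      rw [← not_subsingleton_iff_nontrivial]
      intro h
      rw [Module.finrank_zero_of_subsingleton] at hh0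
      exact zero_ne_one hh0
    obtain ⟨s, hs⟩ := (AlgEquiv22.exists_hom_ne_zero_iff hL).1 inferInstance
    have hfix : ∀ y : 𝟙_ (Over (Spec (CommRingCat.of K))) ⟶ Red.bc β J,
        AlgEquiv22.pb (CubeField.trans₁ y) (PicGrp.cls L hL) = PicGrp.cls L hL → y = 1 := by
      intro y hy
      rw [← hLc, map_inv, inv_inj] at hy
      have e : Index22.bil c₀ (𝟙 (Red.bc β J)) (toUnit (Red.bc β J) ≫ y) = 1 := by
        rw [CubeField.trans₁, Index22.pb_mul, AlgEquiv22.pb_const, _root_.mul_one, AlgEquiv22.pb_id] at hy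
        exact mul_left_cancel (hy.trans (_root_.mul_one c₀).symm)
      have h := congrArg (AlgEquiv22.pb jK) e
      rw [NS22.pb_bil', map_one, Category.comp_id, ← Category.assoc jK, toUnit_unique (jK ≫ toUnit (Red.bc β J)) (toUnit _)] at h
      refine iota_injective hdimK _ ψK hJK ?_
      rw [map_one, ← bil_theta hdimK hσK hJK jK hjK hnK hcl hE y]
      exact h
    have hampL : CohB1.IsAmple L := by
      refine CubeField.isAmple_of_finite_fixing CubeField.finH1 hL s hs ((Set.finite_singleton 1).subset ?_)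
      intro y hy
      refine hfix y ?_
      rw [AlgEquiv22.pb, PicGrp.pullHom_cls]
      exact (PicGrp.cls_eq_cls_iff _ _).2 hy
    have hi : PicGrp.cls _ (PicLoc.isInvertible_pullback (pullback.fst J.hom β) hΘJ.1) =
        PicGrp.cls _ (PicLoc.isInvertible_pullback t.left hL) := by
      rw [← PicGrp.pullHom_cls t.left (M2.pullMul _) L hL, ← hLc, map_inv]
      exact (PicGrp.pullHom_cls _ _ _ _).symm.trans hΘc
    obtain ⟨e⟩ := (PicGrp.cls_eq_cls_iff _ _).1 hi
    haveI : QuasiCompact J.hom := inferInstance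
    haveI : CompactSpace J.left := QuasiCompact.compactSpace_of_compactSpace J.hom
    haveI : J.left.IsSeparated := ⟨by
      have : IsSeparated (J.hom ≫ terminal.from (Spec (CommRingCat.of k))) := inferInstance
      rwa [Subsingleton.elim (J.hom ≫ terminal.from _) (terminal.from J.left)] at this⟩
    exact CubeField.isAmple_of_pullback_field (CommRingCat.ofHom (algebraMap k K)) (IsPullback.of_hasPullback J.hom β) hΘJ.1
      (Amp.isAmple_of_iso e.symm (Amp.isAmple_pullback_of_isAffineHom t.left hampL))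
  · rw [hΘc]
    have hinv : ∀ (c : PicLoc.PicSet (Red.bc β J).left) (f g : Over.mk pK ⟶ Red.bc β J),
        Index22.bil c⁻¹ f g = (Index22.bil c f g)⁻¹ := fun c f g => by
      simp only [Index22.bil, map_inv, mul_inv, inv_inv]
    have htr : ∀ (c : PicLoc.PicSet (Red.bc β J).left) (f g : Over.mk pK ⟶ Red.bc β J),
        Index22.bil (AlgEquiv22.pb t c) f g = Index22.bil c f g := fun c f g => by
      let a' : Over.mk pK ⟶ Red.bc β J := toUnit _ ≫ zA
      have hpb : ∀ x : Over.mk pK ⟶ Red.bc β J, AlgEquiv22.pb x (AlgEquiv22.pb t c) = AlgEquiv22.pb (x * a') c := fun x => by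
        rw [AlgEquiv22.pb_pb, comp_transl]
      have ha' : AlgEquiv22.pb a' c = 1 := AlgEquiv22.pb_const _ _
      rw [Index22.bil, hpb, hpb, hpb, _root_.mul_assoc f g a', Index22.pb_mul c f (g * a'), Index22.pb_mul c g a',
        Index22.pb_mul c f a', ha', _root_.mul_one, _root_.mul_one, Index22.bil_comm c f (g * a'), Index22.bil_mul_left,
        Index22.bil_comm c a' f, Index22.bil_comm c g f]
      exact translate_aux _ _ _ _ _
    show Index22.bil (AlgEquiv22.pb t c₀)⁻¹ jK (toUnit _ ≫ z) = _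
    rw [hinv, htr]
    exact congrArg (·⁻¹) (bil_theta hdimK hσK hJK jK hjK hnK hcl hE z)

end Groth.Agent.JacBC22
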