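import Groth.Agent.Lib.JacPts22.CurveJacobian
import Groth.Agent.Lib.AbDual22.BaseChange
import Groth.Agent.Lib.AgPol22.Subscheme

/-!
# The universal class after an extension of the ground field
-/

set_option autoImplicit false
set_option linter.style.haveILetI false
set_option linter.unusedSectionVars false
set_option backward.isDefEq.respectTransparency false
set_option backward.isDefEq.respectTransparency.types false
set_option maxHeartbeats 1000000

universe u

open CategoryTheory CategoryTheory.Limits AlgebraicGeometry TopologicalSpace Opposite MonoidalCategory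
  CartesianMonoidalCategory MonObj

noncomputable section

namespace Groth.Agent.JacBC22

open Groth.Agent.Abel10 (pc pc_comp pc_id)
open Groth.Agent.Abel10 Groth.Agent.PicRep20 Groth.Agent.AbDual22 Groth.Agent.CurveCoh17

noncomputable local instance instLawJacBCUniv (Y : Scheme.{u}) : PicGrp.Law Y := M2.law Y

variable {k : Type u} [Field k] {K : Type u} [Field K]
  (β : Spec (CommRingCat.of K) ⟶ Spec (CommRingCat.of k))
  {X : Scheme.{u}} (f : X ⟶ Spec (CommRingCat.of k))

/-- The structure map of the curve over the larger field. -/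
abbrev fK : (Red.bc β (Over.mk f)).left ⟶ Spec (CommRingCat.of K) := (Red.bc β (Over.mk f)).hom

/-- A class over the larger field read over the smaller one. -/
abbrev down (T : Over (Spec (CommRingCat.of K))) :
    PicLoc.PicSet (PicF.XT (fK β f) T) →* PicLoc.PicSet (PicF.XT f ((Over.map β).obj T)) :=
  pc (bcIso β (Over.mk f) T).inv

/-- A class over the smaller field read over the larger one. -/
abbrev up (T : Over (Spec (CommRingCat.of K))) :
    PicLoc.PicSet (PicF.XT f ((Over.map β).obj T)) →* PicLoc.PicSet (PicF.XT (fK β f) T) :=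
  pc (bcIso β (Over.mk f) T).hom

theorem down_up (T : Over (Spec (CommRingCat.of K))) (c) : down β f T (up β f T c) = c :=
  (pc_comp _ _ (Iso.inv_hom_id _) _).trans (pc_id _)

theorem up_down (T : Over (Spec (CommRingCat.of K))) (c) : up β f T (down β f T c) = c :=
  (pc_comp _ _ (Iso.hom_inv_id _) _).trans (pc_id _)

theorem up_proj (T : Over (Spec (CommRingCat.of K))) (m : PicLoc.PicSet T.left) :
    up β f T (pc (PicF.XTproj f ((Over.map β).obj T)) m) = pc (PicF.XTproj (fK β f) T) m :=
  pc_comp _ _ (bcIso_snd β (Over.mk f) T) m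

theorem up_map {T T' : Over (Spec (CommRingCat.of K))} (g : T' ⟶ T) (c) :
    up β f T' (pc (PicF.XTmap f ((Over.map β).map g)) c) = pc (PicF.XTmap (fK β f) g) (up β f T c) := by
  refine (pc_comp _ _ rfl c).trans (Eq.trans ?_ (pc_comp _ _ rfl c).symm)
  exact DFunLike.congr_fun (congrArg pc (bcIso_natural β (Over.mk f) g).symm) c

theorem down_map {T T' : Over (Spec (CommRingCat.of K))} (g : T' ⟶ T) (c) :
    down β f T' (pc (PicF.XTmap (fK β f) g) c) = pc (PicF.XTmap f ((Over.map β).map g)) (down β f T c) := by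
  conv_lhs => rw [← up_down β f T c, ← up_map, down_up]

theorem pc_map_map {A B D : Over (Spec (CommRingCat.of k))} (g : A ⟶ B) (h : B ⟶ D) (c) :
    pc (PicF.XTmap f g) (pc (PicF.XTmap f h) c) = pc (PicF.XTmap f (g ≫ h)) c :=
  pc_comp _ _ (HilbBC25.XTmap_comp f g h).symm c

theorem up_fl {J : Over (Spec (CommRingCat.of k))} [GrpObj J] {T : Over (Spec (CommRingCat.of K))}
    (g : T ⟶ Red.bc β J) :
    (Over.map β).map g ≫ DiagGL.fl β J (𝟙 (Red.bc β J)) = DiagGL.fl β J g := by
  rw [← DiagGL.fl_comp, Category.comp_id]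

variable [IsProper f] [Smooth f] [GeometricallyConnected f] [IsIntegral X] [GeometricallyIrreducible f] [IsIntegral (Red.bc β (Over.mk f)).left] [GeometricallyIrreducible (fK β f)] (hdim : topologicalKrullDim X = 1)
  [IsProper (fK β f)] [Smooth (fK β f)] [GeometricallyConnected (fK β f)]
  (hdimK : topologicalKrullDim (Red.bc β (Over.mk f)).left = 1)

include hdim hdimK

/-- Degrees on the fibres do not depend on the ground field. -/
theorem degCl_up (T : Over (Spec (CommRingCat.of K))) (t : T.left)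
    (c : PicLoc.PicSet (PicF.XT f ((Over.map β).obj T))) :
    PicTan20.degCl (fK β f) T t (up β f T c).1 = PicTan20.degCl f ((Over.map β).obj T) t c.1 := by
  obtain ⟨L, hL, rfl⟩ := PicGrp.exists_eq_cls c
  show PicTan20.degCl (fK β f) T t (pc (bcIso β (Over.mk f) T).hom (PicGrp.cls L hL)).1 = _
  rw [pc, PicGrp.pullHom_cls, PicGrp.cls_val, PicGrp.cls_val]
  let p := PicF.XTproj (fK β f) T
  let q := PicF.XTproj f ((Over.map β).obj T)
  haveI : IsProper p := MorphismProperty.pullback_snd (P := @IsProper) _ _ inferInstance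
  haveI : Smooth p := MorphismProperty.pullback_snd (P := @Smooth) _ _ inferInstance
  haveI : GeometricallyConnected p := MorphismProperty.pullback_snd (P := @GeometricallyConnected) _ _ inferInstance
  haveI : IsProper q := MorphismProperty.pullback_snd (P := @IsProper) _ _ inferInstance
  haveI : Smooth q := MorphismProperty.pullback_snd (P := @Smooth) _ _ inferInstance
  haveI : GeometricallyConnected q := MorphismProperty.pullback_snd (P := @GeometricallyConnected) _ _ inferInstance
  let Ω := T.left.residueField t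
  let τ := T.left.fromSpecResidueField t
  letI : (p.fiber t).Over (Spec (CommRingCat.of Ω)) := ⟨p.fiberToSpecResidueField t⟩
  have sq : IsPullback (p.fiberι t) (p.fiber t ↘ Spec (CommRingCat.of Ω)) p τ := IsPullback.of_hasPullback _ _
  have hb : IsPullback (bcIso β (Over.mk f) T).hom p q (𝟙 T.left) :=
    IsPullback.of_horiz_isIso ⟨by rw [Category.comp_id]; exact bcIso_snd β (Over.mk f) T⟩
  have sq' : IsPullback (p.fiberι t ≫ (bcIso β (Over.mk f) T).hom) (p.fiber t ↘ Spec (CommRingCat.of Ω)) q τ := by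
    simpa using sq.paste_horiz hb
  have hL' := PicLoc.isInvertible_pullback (bcIso β (Over.mk f) T).hom hL
  have h1 := Abel10.deg_fieldPt sq hL'
  have h2 := Abel10.deg_fieldPt sq' hL
  erw [deg_fibre (fK β f) hdimK T (τ (IsLocalRing.closedPoint Ω)) hL'] at h1
  erw [deg_fibre f hdim ((Over.map β).obj T) (τ (IsLocalRing.closedPoint Ω)) hL] at h2
  have e : ((Scheme.Modules.pullback (p.fiberι t)).obj ((Scheme.Modules.pullback (bcIso β (Over.mk f) T).hom).obj L)) ≅
      (Scheme.Modules.pullback (p.fiberι t ≫ (bcIso β (Over.mk f) T).hom)).obj L :=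
    (Scheme.Modules.pullbackComp _ _).app L
  haveI : IsProper (p.fiber t ↘ Spec (CommRingCat.of Ω)) := Abel10.isProper_fieldPt sq
  rw [deg_iso (k := Ω) e, h2] at h1
  have ht : τ (IsLocalRing.closedPoint Ω) = t := Scheme.fromSpecResidueField_apply t _
  rw [ht] at h1
  exact h1.symm

variable {J : Over (Spec (CommRingCat.of k))} [GrpObj J] {ξ : PicLoc.PicSet (PicF.XT f J)}
  (hξ : IsUnivClass f 0 J ξ)

omit hdim hdimK in
/-- The universal class over the larger field. -/
def univBC (ξ : PicLoc.PicSet (PicF.XT f J)) : PicLoc.PicSet (PicF.XT (fK β f) (Red.bc β J)) :=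
  up β f (Red.bc β J) (pc (PicF.XTmap f (DiagGL.fl β J (𝟙 (Red.bc β J)))) ξ)

omit hdim hdimK in
theorem pc_univBC {T : Over (Spec (CommRingCat.of K))} (g : T ⟶ Red.bc β J) :
    pc (PicF.XTmap (fK β f) g) (univBC β f ξ) = up β f T (pc (PicF.XTmap f (DiagGL.fl β J g)) ξ) := by
  have h := up_map β f g (pc (PicF.XTmap f (DiagGL.fl β J (𝟙 (Red.bc β J)))) ξ)
  have h2 := pc_map_map f ((Over.map β).map g) (DiagGL.fl β J (𝟙 (Red.bc β J))) ξ
  rw [up_fl β g] at h2
  rw [h2] at h
  exact h.symm

include hξ in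
theorem isUnivClass_bc : IsUnivClass (fK β f) 0 (Red.bc β J) (univBC β f ξ) := by
  refine ⟨fun t => ?_, fun T c hc => ?_⟩
  · rw [univBC, degCl_up β f hdim hdimK]
    have h := PicTan20.degCl_pull f (DiagGL.fl β J (𝟙 (Red.bc β J))) t ξ.2
    generalize DiagGL.fl β J (𝟙 (Red.bc β J)) = x at h ⊢
    exact Eq.trans h (hξ.1 _)
  have hc' : ∀ t, PicTan20.degCl f ((Over.map β).obj T) t (down β f T c).1 = 0 := fun t => by
    rw [← degCl_up β f hdim hdimK T t, up_down]
    exact hc t
  have key : ∀ (g : T ⟶ Red.bc β J) (m : PicLoc.PicSet T.left),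
      c = pc (PicF.XTmap (fK β f) g) (univBC β f ξ) * pc (PicF.XTproj (fK β f) T) m ↔
        down β f T c = pc (PicF.XTmap f (DiagGL.fl β J g)) ξ * pc (PicF.XTproj f ((Over.map β).obj T)) m := fun g m => by
    rw [pc_univBC, ← up_proj, ← map_mul]
    exact ⟨fun h => by rw [h, down_up], fun h => by rw [← h, up_down]⟩
  obtain ⟨g₀, ⟨m₀, hm₀⟩, huniq⟩ := hξ.2 _ _ hc'
  obtain ⟨g, rfl⟩ := DiagGL.fl_surjective β J g₀
  refine ⟨g, ⟨m₀, (key g m₀).2 hm₀⟩, fun g' ⟨m', hm'⟩ => DiagGL.fl_injective β J ?_⟩
  exact huniq _ ⟨m', (key g' m').1 hm'⟩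

theorem fl_classify (hξK : IsUnivClass (fK β f) 0 (Red.bc β J) (univBC β f ξ))
    {T : Over (Spec (CommRingCat.of K))} (c : PicLoc.PicSet (PicF.XT (fK β f) T)) (hc) (hc') :
    DiagGL.fl β J (classify hξK c hc) = classify hξ (down β f T c) hc' := by
  obtain ⟨m, hm⟩ := classify_spec hξK c hc
  refine eq_classify hξ _ hc' _ (m := m) ?_
  conv_lhs => rw [hm, map_mul, pc_univBC, down_up, ← up_proj, down_up]

end Groth.Agent.JacBC22
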